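import Mathlib

/-!
# Components of dimension at most one

`Small q`: the closed set `V(q)` of a local ring has dimension `≤ 1`.
`Low n`: the prime `n` has height `≤ 1`, in chain form.
-/

set_option autoImplicit false

universe u

open IsLocalRing

namespace Groth.Agent.C2Cond88

variable {R : Type u} [CommRing R]

/-- `V(q)` has dimension at most one, witnessed by an element. -/
def Small [IsLocalRing R] (q : Ideal R) : Prop :=
  ∃ x ∈ maximalIdeal R, ∀ P : Ideal R, P.IsPrime → q ≤ P → x ∈ P → P = maximalIdeal R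

/-- No chain `P₀ < P₁ < n`. -/
def Low (n : Ideal R) : Prop :=
  ∀ P0 P1 : Ideal R, P0.IsPrime → P1.IsPrime → P0 < P1 → P1 ≤ n → P1 = n

theorem low_iff_height_le_one {n : Ideal R} [n.IsPrime] : Low n ↔ n.height ≤ 1 := by
  constructor
  · intro h
    rw [show (1 : ℕ∞) = ((1 : ℕ) : ℕ∞) from rfl, Ideal.height_le_iff]
    intro q hq hlt
    have h0 : q.height = 0 := Ideal.height_eq_zero_iff.mpr ⟨⟨hq, bot_le⟩, fun r hr hrq => by
      by_contra hne
      exact hlt.ne (h r q hr.1 hq (lt_of_le_of_ne hrq fun e => hne e.ge) hlt.le)⟩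
    rw [h0]; exact_mod_cast one_pos
  · intro h P0 P1 h0 h1 hlt hle
    by_contra hne
    have := h0
    have := h1
    have a := Ideal.height_add_one_le_of_lt_of_isPrime hlt
    have b := Ideal.height_add_one_le_of_lt_of_isPrime (lt_of_le_of_ne hle hne)
    have hd : P0.height + 1 + 1 ≤ (1 : ℕ∞) := ((add_le_add a le_rfl).trans b).trans h
    have : (0 : ℕ∞) + 1 + 1 ≤ 1 := (add_le_add (add_le_add zero_le le_rfl) le_rfl).trans hd
    exact absurd this (by decide)

variable [IsLocalRing R] {q : Ideal R}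

theorem Small.mono {q' : Ideal R} (h : Small q) (hle : q ≤ q') : Small q' := by
  obtain ⟨x, hx, H⟩ := h
  exact ⟨x, hx, fun P hP hq hxP => H P hP (hle.trans hq) hxP⟩

variable [IsNoetherianRing R] [hq : q.IsPrime]

theorem Small.dim_le (h : Small q) : ringKrullDim (R ⧸ q) ≤ 1 := by
  obtain ⟨x, hx, H⟩ := h
  have : IsLocalRing (R ⧸ q) := IsLocalRing.of_surjective' (Ideal.Quotient.mk q) Ideal.Quotient.mk_surjective
  rw [← IsLocalRing.maximalIdeal_height_eq_ringKrullDim]
  refine WithBot.coe_le_coe.mpr (Ideal.height_le_one_of_isPrincipal_of_mem_minimalPrimes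
    (Ideal.span {Ideal.Quotient.mk q x}) _ ⟨⟨inferInstance, ?_⟩, fun P ⟨hP, hxP⟩ _ => ?_⟩)
  · rw [Ideal.span_singleton_le_iff_mem, mem_maximalIdeal]
    intro hu
    have : IsLocalHom (Ideal.Quotient.mk q) := IsLocalHom.of_surjective _ Ideal.Quotient.mk_surjective
    exact (mem_maximalIdeal _).mp hx (isUnit_of_map_unit _ _ hu)
  · have hcomap := H (P.comap (Ideal.Quotient.mk q)) (hP.comap _)
      (by intro y hy; rw [Ideal.mem_comap, Ideal.Quotient.eq_zero_iff_mem.mpr hy]; exact zero_mem _)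
      (hxP (Ideal.mem_span_singleton_self _))
    intro y hy
    obtain ⟨y, rfl⟩ := Ideal.Quotient.mk_surjective y
    rw [← Ideal.mem_comap, hcomap, mem_maximalIdeal]
    intro hu
    exact (mem_maximalIdeal _).mp hy (hu.map _)

theorem two_le_iff : (2 : WithBot ℕ∞) ≤ ringKrullDim (R ⧸ q) ↔ ¬ Small q := by
  constructor
  · intro h hs
    exact absurd (h.trans hs.dim_le) (by decide)
  · intro h
    have hne : q ≠ maximalIdeal R := fun e => h ⟨0, zero_mem _, fun P hP hle _ =>
      ((maximalIdeal.isMaximal R).eq_of_le hP.ne_top (e ▸ hle)).symm⟩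
    obtain ⟨x, hx, hxq⟩ := SetLike.exists_of_lt (lt_of_le_of_ne (le_maximalIdeal hq.ne_top) hne)
    obtain ⟨P, hP, hqP, hxP, hPm⟩ : ∃ P : Ideal R, P.IsPrime ∧ q ≤ P ∧ x ∈ P ∧ P ≠ maximalIdeal R := by
      by_contra hc
      push Not at hc
      exact h ⟨x, hx, fun P hP h1 h2 => hc P hP h1 h2⟩
    rw [ringKrullDim_quotient]
    let a : PrimeSpectrum.zeroLocus (R := R) q := ⟨⟨q, hq⟩, le_refl q⟩
    let b : PrimeSpectrum.zeroLocus (R := R) q := ⟨⟨P, hP⟩, hqP⟩
    let c : PrimeSpectrum.zeroLocus (R := R) q := ⟨⟨maximalIdeal R, inferInstance⟩, le_maximalIdeal hq.ne_top⟩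
    have hab : a < b := lt_of_le_of_ne hqP fun e => hxq (by
      have h' : q = P := congrArg (fun z : PrimeSpectrum.zeroLocus (R := R) q => z.1.asIdeal) e
      rwa [h'])
    have hbc : b < c := lt_of_le_of_ne (le_maximalIdeal hP.ne_top) fun e =>
      hPm (congrArg (fun z : PrimeSpectrum.zeroLocus (R := R) q => z.1.asIdeal) e)
    exact Order.LTSeries.length_le_krullDim
      ({ length := 2, toFun := ![a, b, c], step := fun i => by fin_cases i <;> assumption } : LTSeries _)

/-- Primes above a small prime are itself or the maximal ideal. -/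
theorem Small.eq (h : Small q) {P : Ideal R} (hP : P.IsPrime) (hle : q ≤ P) (hne : P ≠ maximalIdeal R) :
    P = q := by
  by_contra hPq
  have := h.dim_le
  rw [ringKrullDim_quotient] at this
  let a : PrimeSpectrum.zeroLocus (R := R) q := ⟨⟨q, hq⟩, le_refl q⟩
  let b : PrimeSpectrum.zeroLocus (R := R) q := ⟨⟨P, hP⟩, hle⟩
  let c : PrimeSpectrum.zeroLocus (R := R) q := ⟨⟨maximalIdeal R, inferInstance⟩, le_maximalIdeal hq.ne_top⟩
  have hab : a < b := lt_of_le_of_ne hle fun e =>
    hPq (congrArg (fun z : PrimeSpectrum.zeroLocus (R := R) q => z.1.asIdeal) e).symm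
  have hbc : b < c := lt_of_le_of_ne (le_maximalIdeal hP.ne_top) fun e =>
    hne (congrArg (fun z : PrimeSpectrum.zeroLocus (R := R) q => z.1.asIdeal) e)
  have h2 := (Order.LTSeries.length_le_krullDim
      ({ length := 2, toFun := ![a, b, c], step := fun i => by fin_cases i <;> assumption } : LTSeries _)).trans this
  simp at h2

end Groth.Agent.C2Cond88
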