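import Groth.Agent.C2Cond88.Ext
import Groth.Agent.RegLoc.Completion
import Groth.Agent.EGA4Lib.CplFlat
import Groth.Agent.Hensel.Local
import Groth.Agent.S16576
import Mathlib

/-!
# Small components: local rings, completions, flat extensions with trivial closed fibre
-/

set_option autoImplicit false

universe u

open IsLocalRing TensorProduct

namespace Groth.Agent.C2Cond88

theorem isLocalRing_of_integral_domain (E : Type u) [CommRing E] [HenselianLocalRing E]
    (C : Type u) [CommRing C] [IsDomain C] [Algebra E C] [Algebra.IsIntegral E C] : IsLocalRing C := by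
  refine IsLocalRing.of_unique_max_ideal ?_
  obtain ⟨M, hM⟩ := Ideal.exists_maximal C
  refine ⟨M, hM, fun M' hM' => ?_⟩
  by_contra hne
  obtain ⟨y, hy, hy'⟩ := SetLike.not_le_iff_exists.mp fun h : M' ≤ M => hne (hM'.eq_of_le hM.ne_top h)
  let C' := Algebra.adjoin E ({y} : Set C)
  haveI : Module.Finite E C' :=
    Module.Finite.iff_fg.mpr ((Algebra.IsIntegral.isIntegral (R := E) y).fg_adjoin_singleton)
  obtain ⟨n, e, he, hloc⟩ := Groth.Agent.Hensel.exists_pi_local (R := E) C'
  haveI : IsLocalRing C' := by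
    obtain ⟨i, hi⟩ : ∃ i, e i ≠ 0 := by
      by_contra h
      push Not at h
      have := he.complete
      simp [h] at this
    have h1 : e i = 1 := (IsIdempotentElem.iff_eq_zero_or_one.mp (he.idem i)).resolve_left hi
    have := hloc i
    rw [h1, sub_self] at this
    haveI := this
    exact ((Ideal.quotEquivOfEq (Ideal.span_singleton_eq_bot.mpr rfl)).trans (RingEquiv.quotientBot C')).isLocalRing
  haveI : Algebra.IsIntegral C' C := Algebra.IsIntegral.tower_top E
  have h1 : M.comap (algebraMap C' C) = maximalIdeal C' :=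
    IsLocalRing.eq_maximalIdeal (Ideal.isMaximal_comap_of_isIntegral_of_isMaximal M)
  have h2 : M'.comap (algebraMap C' C) = maximalIdeal C' :=
    IsLocalRing.eq_maximalIdeal (Ideal.isMaximal_comap_of_isIntegral_of_isMaximal M')
  have : (⟨y, Algebra.subset_adjoin rfl⟩ : C') ∈ M'.comap (algebraMap C' C) := hy
  rw [h2, ← h1] at this
  exact hy' this

theorem henselianLocalRing_of_isAdicComplete (E : Type u) [CommRing E] [IsLocalRing E]
    [IsAdicComplete (maximalIdeal E) E] : HenselianLocalRing E where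
  is_henselian f hf a₀ h₁ h₂ := HenselianRing.is_henselian f hf a₀ h₁ (h₂.map _)

section Surjective

variable {R E : Type u} [CommRing R] [IsLocalRing R] [CommRing E] [IsLocalRing E] (π : R →+* E)

theorem comap_maximalIdeal_of_surjective (hπ : Function.Surjective π) :
    (maximalIdeal E).comap π = maximalIdeal R :=
  IsLocalRing.eq_maximalIdeal (Ideal.comap_isMaximal_of_surjective π hπ)

theorem small_comap_iff (hπ : Function.Surjective π) {q : Ideal E} :
    Small (q.comap π) ↔ Small q := by
  have hker : RingHom.ker π ≤ q.comap π := Ideal.ker_le_comap π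
  constructor
  · rintro ⟨x, hx, H⟩
    refine ⟨π x, ?_, fun P hP hqP hxP => ?_⟩
    · rwa [← Ideal.mem_comap, comap_maximalIdeal_of_surjective π hπ]
    · rw [← Ideal.map_comap_of_surjective π hπ P, H (P.comap π) (hP.comap π) (Ideal.comap_mono hqP) hxP,
        ← comap_maximalIdeal_of_surjective π hπ, Ideal.map_comap_of_surjective π hπ]
  · rintro ⟨x, hx, H⟩
    obtain ⟨x, rfl⟩ := hπ x
    refine ⟨x, by rwa [← comap_maximalIdeal_of_surjective π hπ], fun P hP hqP hxP => ?_⟩
    have hk : RingHom.ker π ≤ P := hker.trans hqP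
    have hPm := Ideal.map_isPrime_of_surjective hπ hk
    have := H (P.map π) hPm
      (by rw [← Ideal.map_comap_of_surjective π hπ q]; exact Ideal.map_mono hqP) (Ideal.mem_map_of_mem π hxP)
    rw [← comap_maximalIdeal_of_surjective π hπ, ← this, Ideal.comap_map_of_surjective π hπ,
      ← RingHom.ker_eq_comap_bot, sup_eq_left.mpr hk]

end Surjective

section Flat

variable {R S : Type u} [CommRing R] [IsLocalRing R] [CommRing S] [IsLocalRing S] [Algebra R S]

/-- Small primes go down along a local map with trivial closed fibre. -/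
theorem small_of_small_comap (hmS : (maximalIdeal R).map (algebraMap R S) = maximalIdeal S)
    {q : Ideal S} (h : Small (q.comap (algebraMap R S))) : Small q := by
  obtain ⟨x, hx, H⟩ := h
  refine ⟨algebraMap R S x, hmS ▸ Ideal.mem_map_of_mem _ hx, fun P hP hqP hxP => ?_⟩
  refine ((maximalIdeal.isMaximal S).eq_of_le hP.ne_top ?_).symm
  rw [← hmS, Ideal.map_le_iff_le_comap, ← H (P.comap _) (hP.comap _) (Ideal.comap_mono hqP) hxP]

theorem exists_minimal_over [Module.FaithfullyFlat R S] {p : Ideal R} (hp : p ∈ minimalPrimes R) :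
    ∃ q ∈ minimalPrimes S, q.comap (algebraMap R S) = p := by
  obtain ⟨⟨P, hP⟩, hPc⟩ := PrimeSpectrum.comap_surjective_of_faithfullyFlat (A := R) (B := S) ⟨p, hp.1.1⟩
  replace hPc : P.comap (algebraMap R S) = p := congrArg PrimeSpectrum.asIdeal hPc
  obtain ⟨q, hq, hqP⟩ := Ideal.exists_minimalPrimes_le (I := (⊥ : Ideal S)) (J := P) bot_le
  refine ⟨q, hq, le_antisymm ((Ideal.comap_mono hqP).trans hPc.le) (hp.2 ⟨hq.1.1.comap _, bot_le⟩ ?_)⟩
  exact (Ideal.comap_mono hqP).trans hPc.le

theorem comap_mem_minimalPrimes [Module.Flat R S] {q : Ideal S} (hq : q ∈ minimalPrimes S) :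
    q.comap (algebraMap R S) ∈ minimalPrimes R := by
  have := hq.1.1
  refine ⟨⟨hq.1.1.comap _, bot_le⟩, fun p hp hle => ?_⟩
  have := hp.1
  obtain ⟨Q, hQ, hQp, hQo⟩ := q.exists_ideal_le_liesOver_of_le (p := p) (q := q.comap (algebraMap R S)) hle
  rw [show Q = q from le_antisymm hQ (hq.2 ⟨hQp, bot_le⟩ hQ)] at hQo
  exact hQo.over.ge

end Flat

section Completion

variable (R : Type u) [CommRing R] [IsLocalRing R] [IsNoetherianRing R]

local notation "R̂" => AdicCompletion (maximalIdeal R) R

theorem exists_sub_mem_pow (n : ℕ) (e : R̂) :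
    ∃ r : R, e - algebraMap R R̂ r ∈ (maximalIdeal R ^ n).map (algebraMap R R̂) := by
  obtain ⟨a₀, ha₀⟩ := Submodule.mkQ_surjective _ (AdicCompletion.eval (maximalIdeal R) R n e)
  refine ⟨a₀, ?_⟩
  have hk : e - algebraMap R R̂ a₀ ∈ (maximalIdeal R ^ n • ⊤ : Submodule R R̂) := by
    rw [AdicCompletion.pow_smul_top_eq_ker_eval (IsNoetherian.noetherian _), LinearMap.mem_ker,
      map_sub, sub_eq_zero, ← ha₀]
    rfl
  rwa [Ideal.smul_top_eq_map, Submodule.restrictScalars_mem] at hk

/-- For a domain quotient `R ⧸ p`, small components of `R̂` over `p` and low maximal ideals. -/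
theorem exists_low_of_small {Q : Ideal R̂} (hQ : Q ∈ minimalPrimes R̂) (hS : Small Q)
    (p : Ideal R) [p.IsPrime] (hp : Q.comap (algebraMap R R̂) = p) (hpm : p ≠ maximalIdeal R) :
    ∃ s a c c' : R ⧸ p, s ≠ 0 ∧ a * a = c * (a * s) + c' * (s * s) ∧
      ∀ (N : Type u) [CommRing N] [IsDomain N] [Algebra (R ⧸ p) N] [Algebra.IsIntegral (R ⧸ p) N],
        Function.Injective (algebraMap (R ⧸ p) N) → ∀ τ : N,
          algebraMap (R ⧸ p) N s * τ = algebraMap (R ⧸ p) N a → ∃ M : Ideal N, M.IsMaximal ∧ Low M := by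
  haveI : IsNoetherianRing R̂ := RegLoc.Completion.isNoetherianRing_adicCompletion' _
  haveI : IsLocalRing (R ⧸ p) := IsLocalRing.of_surjective' (Ideal.Quotient.mk p) Ideal.Quotient.mk_surjective
  let E := (R ⧸ p) ⊗[R] R̂
  let π : R̂ →ₐ[R] E := Algebra.TensorProduct.includeRight
  have hπ : Function.Surjective π := Algebra.TensorProduct.includeRight_surjective _ Ideal.Quotient.mk_surjective
  let π' : R̂ →+* E := π
  haveI : IsNoetherianRing E := isNoetherianRing_of_surjective _ _ π' hπ
  have hkerQ : RingHom.ker π' ≤ Q := by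
    intro z hz
    have h1 := congrArg (Algebra.TensorProduct.comm R (R ⧸ p) R̂) (RingHom.mem_ker.mp hz)
    rw [map_zero] at h1
    have h2 := congrArg (Algebra.TensorProduct.quotIdealMapEquivTensorQuot R̂ p).symm h1
    rw [map_zero] at h2
    have h3 : Ideal.Quotient.mk (p.map (algebraMap R R̂)) z = 0 := by
      rw [← h2]
      show _ = (Algebra.TensorProduct.quotIdealMapEquivTensorQuot R̂ p).symm
        (z ⊗ₜ[R] Ideal.Quotient.mk p 1)
      rw [Algebra.TensorProduct.quotIdealMapEquivTensorQuot_symm_tmul, one_smul]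
      rfl
    exact Ideal.map_le_iff_le_comap.mpr hp.ge (Ideal.Quotient.eq_zero_iff_mem.mp h3)
  have hQE : (Q.map π').comap π' = Q := by
    rw [Ideal.comap_map_of_surjective π' hπ, ← RingHom.ker_eq_comap_bot, sup_eq_left.mpr hkerQ]
  have := hQ.1.1
  haveI hQ'p : (Q.map π').IsPrime := Ideal.map_isPrime_of_surjective hπ hkerQ
  haveI : Nontrivial E := ⟨⟨0, 1, fun h => hQ'p.ne_top ((Ideal.eq_top_iff_one _).mpr (h ▸ zero_mem _))⟩⟩
  haveI : IsLocalRing E := IsLocalRing.of_surjective' π' hπ
  refine exists_low (D := R ⧸ p) (E := E) ?_ ?_ ?_ (Q := Q.map π') ⟨⟨hQ'p, bot_le⟩, fun P hP hle => ?_⟩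
    ((small_comap_iff π' hπ).mp (hQE.symm ▸ hS))
  · refine le_antisymm ?_ ?_
    · rw [Ideal.map_le_iff_le_comap]
      intro z hz
      obtain ⟨r, rfl⟩ := Ideal.Quotient.mk_surjective z
      have hr : r ∈ maximalIdeal R := (mem_maximalIdeal r).mpr fun hu => (mem_maximalIdeal _).mp hz (hu.map _)
      rw [Ideal.mem_comap, show algebraMap (R ⧸ p) E (Ideal.Quotient.mk p r) = π (algebraMap R R̂ r) from
        (π.commutes r).symm, show π (algebraMap R R̂ r) = π' (algebraMap R R̂ r) from rfl, ← Ideal.mem_comap, comap_maximalIdeal_of_surjective π' hπ,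
        AdicCompletion.maximalIdeal_eq_map]
      exact Ideal.mem_map_of_mem _ hr
    · rw [← Ideal.map_comap_of_surjective π' hπ (maximalIdeal E), comap_maximalIdeal_of_surjective π' hπ,
        AdicCompletion.maximalIdeal_eq_map, Ideal.map_map, show π'.comp (algebraMap R R̂) = algebraMap R E from π.comp_algebraMap,
        IsScalarTower.algebraMap_eq R (R ⧸ p) E, ← Ideal.map_map]
      refine Ideal.map_mono ?_
      rw [Ideal.map_le_iff_le_comap]
      exact fun r hr => (mem_maximalIdeal _).mpr fun hu => by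
        have : IsLocalHom (Ideal.Quotient.mk p) := IsLocalHom.of_surjective _ Ideal.Quotient.mk_surjective
        exact (mem_maximalIdeal _).mp hr (isUnit_of_map_unit (Ideal.Quotient.mk p) _ hu)
  · intro n e
    obtain ⟨z, rfl⟩ := hπ e
    obtain ⟨r, hr⟩ := exists_sub_mem_pow R n z
    refine ⟨Ideal.Quotient.mk p r, ?_⟩
    have h := Ideal.mem_map_of_mem π' hr
    rw [Ideal.map_map, show π'.comp (algebraMap R R̂) = algebraMap R E from π.comp_algebraMap, IsScalarTower.algebraMap_eq R (R ⧸ p) E,
      ← Ideal.map_map, Ideal.map_pow, map_sub] at h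
    have hle : (maximalIdeal R).map (algebraMap R (R ⧸ p)) ≤ maximalIdeal (R ⧸ p) := by
      rw [Ideal.map_le_iff_le_comap]
      exact fun r hr => (mem_maximalIdeal _).mpr fun hu => by
        have : IsLocalHom (Ideal.Quotient.mk p) := IsLocalHom.of_surjective _ Ideal.Quotient.mk_surjective
        exact (mem_maximalIdeal _).mp hr (isUnit_of_map_unit (Ideal.Quotient.mk p) _ hu)
    rw [show π' (algebraMap R R̂ r) = algebraMap R E r from π.commutes r] at h
    exact Ideal.map_mono (Ideal.pow_right_mono hle n) h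
  · intro h
    refine hpm ((maximalIdeal.isMaximal R).eq_of_le (Ideal.IsPrime.ne_top ‹_›) fun r hr => ?_).symm
    rw [← Ideal.Quotient.eq_zero_iff_mem, ← Submodule.mem_bot (R ⧸ p), ← h, mem_maximalIdeal]
    intro hu
    have : IsLocalHom (Ideal.Quotient.mk p) := IsLocalHom.of_surjective _ Ideal.Quotient.mk_surjective
    exact (mem_maximalIdeal _).mp hr (isUnit_of_map_unit (Ideal.Quotient.mk p) _ hu)
  · have := hP.1
    rw [← Ideal.map_comap_of_surjective _ hπ P]
    refine Ideal.map_mono (hQ.2 ⟨hP.1.comap _, bot_le⟩ ?_)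
    exact (Ideal.comap_mono hle).trans hQE.le

/-- Low maximal ideals of birational integral extensions of `R ⧸ p` give small components. -/
theorem exists_small_of_low (p : Ideal R) (hp : p ∈ minimalPrimes R) (hpm : p ≠ maximalIdeal R)
    (N : Type u) [CommRing N] [IsDomain N] [Algebra (R ⧸ p) N] [Algebra.IsIntegral (R ⧸ p) N]
    (hinj : Function.Injective (algebraMap (R ⧸ p) N))
    (hbir : ∀ z : N, ∃ d : R ⧸ p, d ≠ 0 ∧ ∃ b, algebraMap (R ⧸ p) N d * z = algebraMap (R ⧸ p) N b)
    (M : Ideal N) (hM : M.IsMaximal) (hlow : Low M) :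
    ∃ Q ∈ minimalPrimes R̂, Small Q := by
  haveI : p.IsPrime := hp.1.1
  haveI : IsNoetherianRing R̂ := RegLoc.Completion.isNoetherianRing_adicCompletion' _
  haveI : IsLocalRing (R ⧸ p) := IsLocalRing.of_surjective' (Ideal.Quotient.mk p) Ideal.Quotient.mk_surjective
  haveI : IsLocalHom (algebraMap R R̂) := ((local_hom_TFAE (algebraMap R R̂)).out 0 2 rfl rfl).mpr
    (AdicCompletion.maximalIdeal_eq_map (R := R)).ge
  haveI : Module.FaithfullyFlat R R̂ := Module.FaithfullyFlat.of_flat_of_isLocalHom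
  haveI : HenselianLocalRing R̂ := henselianLocalRing_of_isAdicComplete R̂
  have hlocp : IsLocalHom (Ideal.Quotient.mk p) := IsLocalHom.of_surjective _ Ideal.Quotient.mk_surjective
  let E := (R ⧸ p) ⊗[R] R̂
  let π : R̂ →ₐ[R] E := Algebra.TensorProduct.includeRight
  have hπ : Function.Surjective π := Algebra.TensorProduct.includeRight_surjective _ Ideal.Quotient.mk_surjective
  let π' : R̂ →+* E := π
  haveI : IsNoetherianRing E := isNoetherianRing_of_surjective _ _ π' hπ
  haveI : Module.FaithfullyFlat (R ⧸ p) E := inferInstance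
  haveI : Nontrivial E := by
    have := Module.FaithfullyFlat.lTensor_nontrivial R R̂ (R ⧸ p)
    exact (TensorProduct.comm R (R ⧸ p) R̂).toEquiv.nontrivial
  haveI : IsLocalRing E := IsLocalRing.of_surjective' π' hπ
  have hcomp : π'.comp (algebraMap R R̂) = algebraMap R E := π.comp_algebraMap
  have hmD : (maximalIdeal R).map (algebraMap R (R ⧸ p)) = maximalIdeal (R ⧸ p) :=
    IsLocalRing.eq_maximalIdeal (Ideal.IsMaximal.map_of_surjective_of_ker_le Ideal.Quotient.mk_surjective
      (by rw [Ideal.mk_ker]; exact le_maximalIdeal (Ideal.IsPrime.ne_top ‹_›)))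
  have hmE : (maximalIdeal (R ⧸ p)).map (algebraMap (R ⧸ p) E) = maximalIdeal E := by
    rw [← hmD, Ideal.map_map, ← IsScalarTower.algebraMap_eq, ← hcomp, ← Ideal.map_map,
      ← AdicCompletion.maximalIdeal_eq_map, ← comap_maximalIdeal_of_surjective π' hπ,
      Ideal.map_comap_of_surjective π' hπ]
  obtain ⟨Q', hQ', hS⟩ := exists_small (D := R ⧸ p) (E := E) hmE (fun h => hpm (by
      rw [← hmD, Ideal.map_eq_bot_iff_le_ker, Ideal.Quotient.algebraMap_eq, Ideal.mk_ker] at h
      exact ((maximalIdeal.isMaximal R).eq_of_le (Ideal.IsPrime.ne_top ‹_›) h).symm))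
    N hinj hbir M hM hlow fun C _ _ _ _ => by
      letI : Algebra R̂ C := ((algebraMap E C).comp π').toAlgebra
      haveI : Algebra.IsIntegral R̂ C := ⟨fun c => RingHom.IsIntegral.trans π' (algebraMap E C)
        (π'.isIntegral_of_surjective hπ) (algebraMap_isIntegral_iff.mpr inferInstance) c⟩
      exact isLocalRing_of_integral_domain R̂ C
  have hQ'p := hQ'.1.1
  refine ⟨Q'.comap π', ⟨⟨hQ'p.comap _, bot_le⟩, fun P hP hle => ?_⟩, (small_comap_iff π' hπ).mpr hS⟩
  have := hP.1
  have hdown : (Q'.comap π').comap (algebraMap R R̂) ≤ p := by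
    have h := comap_mem_minimalPrimes (R := R ⧸ p) hQ'
    rw [IsDomain.minimalPrimes_eq_singleton_bot] at h
    rw [Ideal.comap_comap, hcomp, IsScalarTower.algebraMap_eq R (R ⧸ p) E, ← Ideal.comap_comap,
      Set.mem_singleton_iff.mp h, ← RingHom.ker_eq_comap_bot, Ideal.Quotient.algebraMap_eq, Ideal.mk_ker]
  have hPc : P.comap (algebraMap R R̂) = p :=
    le_antisymm ((Ideal.comap_mono hle).trans hdown) (hp.2 ⟨hP.1.comap _, bot_le⟩ ((Ideal.comap_mono hle).trans hdown))
  have hker : RingHom.ker π' ≤ P := by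
    intro z hz
    have h1 := congrArg (Algebra.TensorProduct.comm R (R ⧸ p) R̂) (RingHom.mem_ker.mp hz)
    rw [map_zero] at h1
    have h2 := congrArg (Algebra.TensorProduct.quotIdealMapEquivTensorQuot R̂ p).symm h1
    rw [map_zero] at h2
    have h3 : Ideal.Quotient.mk (p.map (algebraMap R R̂)) z = 0 := by
      rw [← h2]
      show _ = (Algebra.TensorProduct.quotIdealMapEquivTensorQuot R̂ p).symm
        (z ⊗ₜ[R] Ideal.Quotient.mk p 1)
      rw [Algebra.TensorProduct.quotIdealMapEquivTensorQuot_symm_tmul, one_smul]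
      rfl
    exact Ideal.map_le_iff_le_comap.mpr hPc.ge (Ideal.Quotient.eq_zero_iff_mem.mp h3)
  haveI := Ideal.map_isPrime_of_surjective hπ hker
  have := hQ'.2 ⟨‹(P.map π').IsPrime›, bot_le⟩ (Ideal.map_le_iff_le_comap.mpr hle)
  calc Q'.comap π' ≤ (P.map π').comap π' := Ideal.comap_mono this
    _ = P := by rw [Ideal.comap_map_of_surjective π' hπ, ← RingHom.ker_eq_comap_bot, sup_eq_left.mpr hker]

/-- Henselian: small components are visible before completion. -/
theorem forall_small_iff_of_henselian [HenselianLocalRing R] :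
    (∀ p ∈ minimalPrimes R, ¬ Small p) ↔ ∀ Q ∈ minimalPrimes R̂, ¬ Small Q := by
  haveI : IsNoetherianRing R̂ := RegLoc.Completion.isNoetherianRing_adicCompletion' _
  haveI : IsLocalHom (algebraMap R R̂) := ((local_hom_TFAE (algebraMap R R̂)).out 0 2 rfl rfl).mpr
    (AdicCompletion.maximalIdeal_eq_map (R := R)).ge
  haveI : Module.FaithfullyFlat R R̂ := Module.FaithfullyFlat.of_flat_of_isLocalHom
  constructor
  · intro h Q hQ hS
    have hp := comap_mem_minimalPrimes (R := R) hQ
    have hpp := hp.1.1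
    have hns := h _ hp
    have hpm : Q.comap (algebraMap R R̂) ≠ maximalIdeal R := fun e => hns ⟨0, zero_mem _, fun P hP hle _ =>
      ((maximalIdeal.isMaximal R).eq_of_le hP.ne_top (e ▸ hle)).symm⟩
    set p := Q.comap (algebraMap R R̂)
    obtain ⟨s, a, c, c', hs, hcc, H⟩ := exists_low_of_small R hQ hS p rfl hpm
    let D := R ⧸ p
    let K := FractionRing D
    let t : K := algebraMap D K a / algebraMap D K s
    have hsK : algebraMap D K s ≠ 0 := (map_ne_zero_iff _ (IsFractionRing.injective D K)).mpr hs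
    have ht : IsIntegral D t := by
      refine ⟨Polynomial.X ^ 2 - Polynomial.C c * Polynomial.X - Polynomial.C c', by monicity!, ?_⟩
      have h2 := congrArg (algebraMap D K) hcc
      simp only [map_add, map_mul] at h2
      simp only [Polynomial.eval₂_sub, Polynomial.eval₂_pow, Polynomial.eval₂_X, Polynomial.eval₂_mul,
        Polynomial.eval₂_C, t]
      rw [div_pow, mul_div_assoc', div_sub_div _ _ (pow_ne_zero 2 hsK) hsK, sub_eq_zero,
        div_eq_iff (mul_ne_zero (pow_ne_zero 2 hsK) hsK)]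
      linear_combination algebraMap D K s * h2
    let N := Algebra.adjoin D ({t} : Set K)
    haveI : Algebra.IsIntegral D N := Algebra.IsIntegral.adjoin fun y hy => by
      rw [Set.mem_singleton_iff] at hy; exact hy ▸ ht
    have hinj : Function.Injective (algebraMap D N) := fun x y e =>
      IsFractionRing.injective D K (congrArg Subtype.val e)
    obtain ⟨M, hM, hlow⟩ := H N hinj ⟨t, Algebra.subset_adjoin rfl⟩ (Subtype.ext (mul_div_cancel₀ _ hsK))
    letI : Algebra R N := ((algebraMap D N).comp (Ideal.Quotient.mk p)).toAlgebra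
    haveI : IsScalarTower R D N := IsScalarTower.of_algebraMap_eq fun r => rfl
    haveI : Algebra.IsIntegral R D := Algebra.IsIntegral.of_surjective (Ideal.Quotient.mkₐ R p) Ideal.Quotient.mk_surjective
    haveI : Algebra.IsIntegral R N := Algebra.IsIntegral.trans D
    haveI := isLocalRing_of_integral_domain R N
    have hker : (⊥ : Ideal N).comap (algebraMap R N) = p := by
      rw [← RingHom.ker_eq_comap_bot]
      show RingHom.ker ((algebraMap D N).comp (Ideal.Quotient.mk p)) = p
      rw [RingHom.ker_comp_of_injective _ hinj, Ideal.mk_ker]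
    refine hns ?_
    by_contra hsmall
    obtain ⟨x, hx, hxp⟩ := SetLike.exists_of_lt (lt_of_le_of_ne (le_maximalIdeal hpp.ne_top) hpm)
    obtain ⟨P, hP, hpP, hxP, hPm⟩ : ∃ P : Ideal R, P.IsPrime ∧ p ≤ P ∧ x ∈ P ∧ P ≠ maximalIdeal R := by
      by_contra hc; push Not at hc; exact hsmall ⟨x, hx, fun P hP a b => hc P hP a b⟩
    obtain ⟨P', -, hP'p, hP'c⟩ := Ideal.exists_ideal_over_prime_of_isIntegral (R := R) (S := N) P ⊥ (hker.le.trans hpP)
    have hne0 : (⊥ : Ideal N) < P' := bot_lt_iff_ne_bot.mpr fun e => hxp (by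
      rw [← hker, ← e, hP'c]; exact hxP)
    have hMeq := hlow ⊥ P' Ideal.isPrime_bot hP'p hne0
      ((le_maximalIdeal hP'p.ne_top).trans (IsLocalRing.eq_maximalIdeal hM).ge)
    refine hPm ?_
    rw [← hP'c, hMeq]
    exact IsLocalRing.eq_maximalIdeal (Ideal.isMaximal_comap_of_isIntegral_of_isMaximal M)
  · intro h p hp hS
    obtain ⟨Q, hQ, hQp⟩ := exists_minimal_over (S := R̂) hp
    exact h Q hQ (small_of_small_comap (AdicCompletion.maximalIdeal_eq_map (R := R)).symm (hQp.symm ▸ hS))

end Completion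

end Groth.Agent.C2Cond88
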