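import Groth.Agent.C2Cond88.Basic
import Mathlib

/-!
# Small components of the completion and height-one maximal ideals of finite birational extensions
-/

set_option autoImplicit false

universe u

open IsLocalRing TensorProduct

namespace Groth.Agent.C2Cond88

/-- Flat extension commutes with colon ideals by finite sets. -/
theorem exists_sum_colon {D E : Type u} [CommRing D] [CommRing E] [Algebra D E] [Module.Flat D E]
    (s : D) (k : E) (T : Finset D) (kk : D → E) (h : ∀ x ∈ T, algebraMap D E x * k = algebraMap D E s * kk x) :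
    k ∈ Ideal.span (algebraMap D E '' {a | ∀ x ∈ T, ∃ b, a * x = s * b}) := by
  classical
  suffices ∃ (l : ℕ) (a : Fin l → D) (y : Fin l → E), (∀ i, ∀ x ∈ T, ∃ b, a i * x = s * b) ∧
      k = ∑ i, algebraMap D E (a i) * y i by
    obtain ⟨l, a, y, ha, rfl⟩ := this
    exact sum_mem fun i _ => Ideal.mul_mem_right _ _ (Submodule.subset_span ⟨a i, ha i, rfl⟩)
  induction T using Finset.induction with
  | empty => exact ⟨1, fun _ => 1, fun _ => k, by simp, by simp⟩
  | @insert x T hx ih =>
    obtain ⟨l, a, y, ha, hk⟩ := ih fun z hz => h z (Finset.mem_insert_of_mem hz)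
    have hrel : ∑ i : Option (Fin l), (i.elim (-s) (fun i => x * a i)) • (i.elim (kk x) y) = 0 := by
      rw [Fintype.sum_option]
      simp only [Option.elim, Algebra.smul_def, map_mul, map_neg, mul_assoc, ← Finset.mul_sum, ← hk]
      rw [h x (Finset.mem_insert_self x T)]; ring
    obtain ⟨n, A, z, hz, hA⟩ := Module.Flat.isTrivialRelation_of_sum_smul_eq_zero (R := D) (M := E) hrel
    refine ⟨n, fun j => ∑ i, a i * A (some i) j, z, fun j w hw => ?_, ?_⟩
    · rcases Finset.mem_insert.mp hw with rfl | hw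
      · refine ⟨A none j, ?_⟩
        have := hA j
        rw [Fintype.sum_option] at this
        simp only [Option.elim] at this
        rw [Finset.sum_mul]
        rw [show ∑ i, a i * A (some i) j * w = ∑ i, w * a i * A (some i) j from
          Finset.sum_congr rfl fun i _ => by ring]
        linear_combination this
      · choose b hb using fun i => ha i w hw
        exact ⟨∑ i, b i * A (some i) j, by
          rw [Finset.sum_mul, Finset.mul_sum]
          exact Finset.sum_congr rfl fun i _ => by linear_combination A (some i) j * hb i⟩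
    · calc k = ∑ i, algebraMap D E (a i) * y i := hk
        _ = ∑ i, ∑ j, algebraMap D E (a i * A (some i) j) * z j := by
          refine Finset.sum_congr rfl fun i _ => ?_
          have h' := hz (some i)
          simp only [Option.elim] at h'
          rw [h', Finset.mul_sum]
          exact Finset.sum_congr rfl fun j _ => by rw [Algebra.smul_def, map_mul, mul_assoc]
        _ = _ := by
          rw [Finset.sum_comm]
          exact Finset.sum_congr rfl fun j _ => by rw [← Finset.sum_mul, ← map_sum]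

/-- The component splitting attached to a small minimal prime. -/
theorem exists_split {E : Type u} [CommRing E] [IsLocalRing E] [IsNoetherianRing E] {Q : Ideal E}
    (hQ : Q ∈ minimalPrimes E) (hS : Small Q) :
    ∃ Q0 K0 : Ideal E, (∀ q ∈ Q0, ∀ k ∈ K0, q * k = 0) ∧ Q0 ≤ Q ∧
      (∀ P : Ideal E, P.IsPrime → Q0 ≤ P → Q ≤ P) ∧ ∃ n : ℕ, maximalIdeal E ^ n ≤ Q0 ⊔ K0 := by
  classical
  have hQp : Q.IsPrime := hQ.1.1
  let φ := algebraMap E (Localization.AtPrime Q)
  let Q0 := RingHom.ker φ
  have hQ0 : ∀ q, q ∈ Q0 ↔ ∃ y ∉ Q, y * q = 0 := fun q => by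
    rw [RingHom.mem_ker, IsLocalization.map_eq_zero_iff Q.primeCompl]
    exact ⟨fun ⟨m, hm⟩ => ⟨m, m.2, hm⟩, fun ⟨y, hy, h⟩ => ⟨⟨y, hy⟩, h⟩⟩
  have hle : Q0 ≤ Q := fun q hq => by
    obtain ⟨y, hy, h⟩ := (hQ0 q).mp hq
    exact (hQp.mem_or_mem (h ▸ Q.zero_mem)).resolve_left hy
  have hrad : Q ≤ Q0.radical := by
    intro x hx
    have hdim : Ring.KrullDimLE 0 (Localization.AtPrime Q) := by
      rw [Ring.krullDimLE_iff, IsLocalization.AtPrime.ringKrullDim_eq_height Q,
        Ideal.height_eq_zero_iff.mpr hQ]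
      simp
    have hnil : IsNilpotent (φ x) := by
      rw [← mem_nilradical, Ring.KrullDimLE.nilradical_eq_maximalIdeal]
      exact (IsLocalization.AtPrime.to_map_mem_maximal_iff _ Q x).mpr hx
    obtain ⟨r, hr⟩ := hnil
    exact ⟨r, by rw [RingHom.mem_ker, map_pow, hr]⟩
  -- an element outside `Q` killing `Q0`
  obtain ⟨G, hG⟩ := IsNoetherian.noetherian Q0
  choose yf hyf hyf0 using fun g : {x // x ∈ G} => (hQ0 g.1).mp (hG ▸ Submodule.subset_span g.2)
  let y := ∏ g, yf g
  have hy : y ∉ Q := fun h => by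
    obtain ⟨g, -, hg⟩ := Ideal.IsPrime.prod_mem_iff.mp h
    exact hyf g hg
  have hykill : ∀ q ∈ Q0, y * q = 0 := by
    intro q hq
    rw [← hG] at hq
    induction hq using Submodule.span_induction with
    | mem g hg =>
      obtain ⟨c, hc⟩ := Finset.dvd_prod_of_mem yf (Finset.mem_univ (⟨g, hg⟩ : {x // x ∈ G}))
      rw [show y = _ from hc, mul_right_comm, hyf0 ⟨g, hg⟩, zero_mul]
    | zero => exact mul_zero _
    | add a b _ _ ha hb => rw [mul_add, ha, hb, add_zero]
    | smul c a _ ha => rw [smul_eq_mul, mul_left_comm, ha, mul_zero]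
  refine ⟨Q0, Ideal.span {y}, fun q hq k hk => ?_, hle, fun P hP h => hrad.trans (hP.radical_le_iff.mpr h), ?_⟩
  · obtain ⟨c, rfl⟩ := Ideal.mem_span_singleton'.mp hk
    rw [mul_left_comm, mul_comm q, hykill q hq, mul_zero]
  refine Ideal.exists_pow_le_of_le_radical_of_fg (J := Q0 ⊔ Ideal.span {y}) ?_ (IsNoetherian.noetherian _)
  rw [Ideal.radical_eq_sInf]
  refine le_sInf fun P ⟨hP, hPp⟩ => ?_
  by_contra hne
  have hQP : Q ≤ P := hrad.trans (hPp.radical_le_iff.mpr (le_sup_left.trans hP))
  exact hy ((hS.eq hPp hQP fun e => hne e.ge) ▸ hP (Ideal.mem_sup_right (Ideal.mem_span_singleton_self y)))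

variable {D E : Type u} [CommRing D] [IsDomain D] [IsLocalRing D] [IsNoetherianRing D]
  [CommRing E] [Algebra D E] [Module.Flat D E] [IsLocalRing E] [IsNoetherianRing E]

/-- A small component of `E` gives a quadratic element whose extensions have low maximal ideals. -/
theorem exists_low (hmE : (maximalIdeal D).map (algebraMap D E) = maximalIdeal E)
    (hsurj : ∀ n : ℕ, ∀ e : E, ∃ d : D, e - algebraMap D E d ∈ (maximalIdeal D ^ n).map (algebraMap D E))
    (hD : maximalIdeal D ≠ ⊥) {Q : Ideal E} (hQ : Q ∈ minimalPrimes E) (hS : Small Q) :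
    ∃ s a c c' : D, s ≠ 0 ∧ a * a = c * (a * s) + c' * (s * s) ∧
      ∀ (N : Type u) [CommRing N] [IsDomain N] [Algebra D N] [Algebra.IsIntegral D N],
        Function.Injective (algebraMap D N) → ∀ τ : N, algebraMap D N s * τ = algebraMap D N a →
        ∃ M : Ideal N, M.IsMaximal ∧ Low M := by
  classical
  obtain ⟨Q0, K0, hmul, hQ0Q, hQ0P, n0, hn0⟩ := exists_split hQ hS
  have hQp : Q.IsPrime := hQ.1.1
  have hQD : Q.comap (algebraMap D E) = ⊥ := by
    obtain ⟨R, hR, hRp, hRo⟩ := Q.exists_ideal_le_liesOver_of_le (p := (⊥ : Ideal D))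
      (q := Q.comap (algebraMap D E)) bot_le
    rw [show R = Q from le_antisymm hR (hQ.2 ⟨hRp, bot_le⟩ hR)] at hRo
    exact hRo.over.symm
  set I := maximalIdeal D ^ n0 with hI
  have hIdec : ∀ x ∈ I, ∃ q ∈ Q0, ∃ k ∈ K0, algebraMap D E x = q + k := fun x hx => by
    have hx' : algebraMap D E x ∈ maximalIdeal E ^ n0 := by
      rw [← hmE, ← Ideal.map_pow]; exact Ideal.mem_map_of_mem _ hx
    obtain ⟨q, hq, k, hk, hqk⟩ := Submodule.mem_sup.mp (hn0 hx')
    exact ⟨q, hq, k, hk, hqk.symm⟩
  choose! qf hqf kf hkf hdec using hIdec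
  obtain ⟨s, hs, hs0⟩ : ∃ s ∈ I, s ≠ 0 := by
    obtain ⟨x, hx, hx0⟩ := Submodule.exists_mem_ne_zero_of_ne_bot hD
    exact ⟨x ^ n0, Ideal.pow_mem_pow hx n0, pow_ne_zero _ hx0⟩
  set k := kf s with hkdef
  have hkx : ∀ x ∈ I, algebraMap D E x * k = algebraMap D E s * kf x := fun x hx => by
    rw [hdec x hx, hdec s hs]
    linear_combination hmul (qf x) (hqf x hx) (kf s) (hkf s hs) - hmul (qf s) (hqf s hs) (kf x) (hkf x hx)
  have hk2 : k * k = algebraMap D E s * k := (hdec s hs).symm ▸ by
    linear_combination -hmul (qf s) (hqf s hs) (kf s) (hkf s hs)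
  obtain ⟨T, hT⟩ := IsNoetherian.noetherian I
  have hTI : ∀ x ∈ T, x ∈ I := fun x hx => hT ▸ Submodule.subset_span hx
  have hkmem := exists_sum_colon s k T kf fun x hx => hkx x (hTI x hx)
  -- `k = a + s δ`
  obtain ⟨a, δ, ha⟩ : ∃ (a : D) (δ : E), k = algebraMap D E a + algebraMap D E s * δ := by
    refine Submodule.span_induction (p := fun z _ => ∃ (a : D) (δ : E),
      z = algebraMap D E a + algebraMap D E s * δ ∧ ∀ x ∈ T, ∃ b, a * x = s * b) ?_ ?_ ?_ ?_ hkmem |>.imp
      fun a ⟨δ, h, _⟩ => ⟨δ, h⟩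
    · rintro _ ⟨a, ha, rfl⟩; exact ⟨a, 0, by rw [mul_zero, add_zero], ha⟩
    · exact ⟨0, 0, by simp, fun x _ => ⟨0, by simp⟩⟩
    · rintro _ _ _ _ ⟨a, δ, rfl, ha⟩ ⟨a', δ', rfl, ha'⟩
      refine ⟨a + a', δ + δ', by rw [map_add]; ring, fun x hx => ?_⟩
      obtain ⟨b, hb⟩ := ha x hx; obtain ⟨b', hb'⟩ := ha' x hx
      exact ⟨b + b', by linear_combination hb + hb'⟩
    · rintro e _ _ ⟨a, δ, rfl, ha⟩
      obtain ⟨d, hd⟩ := hsurj n0 e
      have hsub : algebraMap D E a * (e - algebraMap D E d) ∈ Ideal.span {algebraMap D E s} := by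
        have hle : (maximalIdeal D ^ n0).map (algebraMap D E) ≤
            (Ideal.span {algebraMap D E s}).colon {algebraMap D E a} := by
          rw [← hI, ← hT, Ideal.submodule_span_eq, Ideal.map_span, Ideal.span_le]
          rintro _ ⟨x, hx, rfl⟩
          obtain ⟨b, hb⟩ := ha x hx
          rw [SetLike.mem_coe, Submodule.mem_colon_singleton, smul_eq_mul, ← map_mul, mul_comm x, hb, map_mul]
          exact Ideal.mem_span_singleton'.mpr ⟨_, mul_comm _ _⟩
        have := Submodule.mem_colon_singleton.mp (hle hd)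
        rwa [smul_eq_mul, mul_comm] at this
      obtain ⟨w, hw⟩ := Ideal.mem_span_singleton'.mp hsub
      refine ⟨d * a, w + e * δ, ?_, fun x hx => ?_⟩
      · rw [smul_eq_mul, map_mul]; linear_combination -hw
      · obtain ⟨b, hb⟩ := ha x hx
        exact ⟨d * b, by linear_combination d * hb⟩
  -- the quadratic relation, over `D` by faithful flatness
  obtain ⟨c, c', hcc⟩ : ∃ c c', a * a = c * (a * s) + c' * (s * s) := by
    have hloc : IsLocalHom (algebraMap D E) :=
      ((local_hom_TFAE (algebraMap D E)).out 0 2 rfl rfl).mpr hmE.le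
    have : Module.FaithfullyFlat D E := Module.FaithfullyFlat.of_flat_of_isLocalHom
    have hmem : algebraMap D E (a * a) ∈ (Ideal.span {a * s, s * s}).map (algebraMap D E) := by
      rw [Ideal.map_span, Set.image_pair, Ideal.mem_span_pair]
      refine ⟨1 - 2 * δ, δ - δ * δ, ?_⟩
      rw [ha] at hk2
      simp only [map_mul]
      linear_combination -hk2
    rw [← Ideal.mem_comap, Ideal.comap_map_eq_self_of_faithfullyFlat, Ideal.mem_span_pair] at hmem
    obtain ⟨c, c', h⟩ := hmem
    exact ⟨c, c', h.symm⟩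
  refine ⟨s, a, c, c', hs0, hcc, fun N _ _ _ _ hinj τ hτ => ?_⟩
  let D' := Algebra.adjoin D ({τ} : Set N)
  let τ' : D' := ⟨τ, Algebra.subset_adjoin rfl⟩
  have hinj' : Function.Injective (algebraMap D D') := fun x y h => hinj (congrArg Subtype.val h)
  have hτ' : algebraMap D D' s * τ' = algebraMap D D' a := Subtype.ext hτ
  have hτ2 : τ * τ = algebraMap D N c * τ + algebraMap D N c' := by
    refine mul_left_cancel₀ (mul_ne_zero ((map_ne_zero_iff _ hinj).mpr hs0) ((map_ne_zero_iff _ hinj).mpr hs0)) ?_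
    have h2 := congrArg (algebraMap D N) hcc
    simp only [map_add, map_mul] at h2
    linear_combination h2 + (algebraMap D N s * τ + algebraMap D N a - algebraMap D N s * algebraMap D N c) * hτ
  have hlin : ∀ z : D', ∃ u v : D, z = algebraMap D D' u + algebraMap D D' v * τ' := by
    rintro ⟨z, hz⟩
    suffices ∃ u v : D, z = algebraMap D N u + algebraMap D N v * τ by
      obtain ⟨u, v, h⟩ := this; exact ⟨u, v, Subtype.ext h⟩
    induction hz using Algebra.adjoin_induction with
    | mem y hy => rw [Set.mem_singleton_iff] at hy; exact ⟨0, 1, by simp [hy]⟩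
    | algebraMap r => exact ⟨r, 0, by simp⟩
    | add x y _ _ hx hy =>
      obtain ⟨u, v, rfl⟩ := hx; obtain ⟨u', v', rfl⟩ := hy
      exact ⟨u + u', v + v', by simp only [map_add]; ring⟩
    | mul x y _ _ hx hy =>
      obtain ⟨u, v, rfl⟩ := hx; obtain ⟨u', v', rfl⟩ := hy
      exact ⟨u * u' + v * v' * c', u * v' + v * u' + v * v' * c, by
        simp only [map_add, map_mul]; linear_combination algebraMap D N v * algebraMap D N v' * hτ2⟩
  let B := D' ⊗[D] E
  let ι : E →ₐ[D] B := Algebra.TensorProduct.includeRight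
  have hιinj : Function.Injective ι := Algebra.TensorProduct.includeRight_injective hinj'
  let σ : D' →+* B := Algebra.TensorProduct.includeLeftRingHom
  haveI : Module.Flat D' B := inferInstance
  have hσ : algebraMap D' B = σ := rfl
  have hcomm : ∀ d : D, σ (algebraMap D D' d) = ι (algebraMap D E d) := fun d => by
    rw [AlgHom.commutes]; exact (Algebra.TensorProduct.includeLeft (R := D) (S := D) (A := D') (B := E)).commutes d
  let e : B := σ τ' + ι δ
  have hse : ι (algebraMap D E s) * e = ι k := by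
    have h1 : ι (algebraMap D E s) * σ τ' = ι (algebraMap D E a) := by
      rw [← hcomm, ← map_mul, hτ', hcomm]
    rw [mul_add, h1, ← map_mul, ← map_add, ← ha]
  have hsmul : ∀ (d : D') (z : B), d • z = σ d * z := fun d z => by
    induction z using TensorProduct.induction_on with
    | zero => rw [smul_zero, mul_zero]
    | tmul u v =>
      show _ = Algebra.TensorProduct.includeLeftRingHom d * _
      rw [Algebra.TensorProduct.includeLeftRingHom_apply, Algebra.TensorProduct.tmul_mul_tmul, one_mul]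
      rfl
    | add x y hx hy => rw [smul_add, mul_add, hx, hy]
  have hcancel : ∀ z w : B, ι (algebraMap D E s) * z = ι (algebraMap D E s) * w → z = w := by
    intro z w h
    refine Module.Flat.isSMulRegular_of_isRegular (R := D') (M := B)
      (isRegular_of_ne_zero ((map_ne_zero_iff _ hinj').mpr hs0 : algebraMap D D' s ≠ 0)) ?_
    show algebraMap D D' s • z = algebraMap D D' s • w
    rw [hsmul, hsmul, hcomm, h]
  have hxe : ∀ x ∈ I, ι (algebraMap D E x) * e = ι (kf x) := fun x hx => hcancel _ _ (by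
    rw [mul_left_comm, hse, ← map_mul, ← map_mul, hkx x hx])
  have he : e * e = e := hcancel _ _ (by
    refine hcancel _ _ ?_
    rw [← mul_assoc (ι (algebraMap D E s)) e e, hse, ← mul_assoc, mul_comm _ (ι k), mul_assoc, hse, ← map_mul,
      hk2, map_mul, mul_comm])
  have hgen : ∀ z : B, ∃ u v : E, z = ι u + ι v * e := by
    intro z
    induction z using TensorProduct.induction_on with
    | zero => exact ⟨0, 0, by simp⟩
    | tmul d w =>
      obtain ⟨u, v, rfl⟩ := hlin d
      refine ⟨(algebraMap D E u - algebraMap D E v * δ) * w, algebraMap D E v * w, ?_⟩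
      rw [show (algebraMap D D' u + algebraMap D D' v * τ') ⊗ₜ[D] w =
        σ (algebraMap D D' u + algebraMap D D' v * τ') * ι w by simp [σ, ι, B]]
      simp only [map_add, map_mul, map_sub, hcomm, e]; ring
    | add x y hx hy =>
      obtain ⟨u, v, rfl⟩ := hx; obtain ⟨u', v', rfl⟩ := hy
      exact ⟨u + u', v + v', by simp only [map_add]; ring⟩
  obtain ⟨R, hR, hRQ⟩ := Ideal.exists_comap_eq_of_mem_minimalPrimes_of_injective (f := ι.toRingHom) hιinj Q hQ
  have hsR : ι (algebraMap D E s) ∉ R := fun h => by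
    have : algebraMap D E s ∈ Q := hRQ ▸ h
    rw [← Ideal.mem_comap, hQD] at this
    exact hs0 this
  have h1e : 1 - e ∈ R := by
    refine (hR.mem_or_mem (x := ι (algebraMap D E s)) ?_).resolve_left hsR
    rw [mul_sub, mul_one, hse, ← map_sub]
    have : algebraMap D E s - k ∈ Q := hQ0Q (by rw [hdec s hs, hkdef, add_sub_cancel_right]; exact hqf s hs)
    rw [← hRQ] at this; exact this
  obtain ⟨NB, hNB, hRN⟩ := Ideal.exists_le_maximal R hR.ne_top
  have heN : e ∉ NB := fun h => hNB.ne_top ((Ideal.eq_top_iff_one _).mpr (by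
    simpa using add_mem h (hRN h1e)))
  have h1 : ∀ P : Ideal B, P.IsPrime → P ≤ NB → 1 - e ∈ P := fun P hP hle =>
    (hP.mem_or_mem (x := e) (by rw [mul_sub, mul_one, he, sub_self]; exact zero_mem _)).resolve_left
      fun h => heN (hle h)
  have hredu : ∀ (P : Ideal B), 1 - e ∈ P → ∀ u v : E, (ι u + ι v * e ∈ P ↔ u + v ∈ P.comap ι.toRingHom) := by
    intro P hP u v
    rw [Ideal.mem_comap, show ι.toRingHom (u + v) = (ι u + ι v * e) + ι v * (1 - e) by
      simp [map_add]; ring]
    exact (Submodule.add_mem_iff_left P (P.mul_mem_left _ hP)).symm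
  have hmaxc : NB.comap ι.toRingHom = maximalIdeal E := by
    refine IsLocalRing.eq_maximalIdeal ?_
    letI := Ideal.Quotient.field NB
    have hsurjq : Function.Surjective ((Ideal.Quotient.mk NB).comp ι.toRingHom) := fun z => by
      obtain ⟨z, rfl⟩ := Ideal.Quotient.mk_surjective z
      obtain ⟨u, v, rfl⟩ := hgen z
      refine ⟨u + v, Ideal.Quotient.eq.mpr ?_⟩
      rw [show ι.toRingHom (u + v) - (ι u + ι v * e) = ι v * (1 - e) by simp [map_add]; ring]
      exact NB.mul_mem_left _ (h1 NB hNB.isPrime le_rfl)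
    have := Ideal.comap_isMaximal_of_surjective _ hsurjq (K := ⊥) (H := Ideal.bot_isMaximal (K := B ⧸ NB))
    rwa [← Ideal.comap_comap, ← RingHom.ker_eq_comap_bot, Ideal.mk_ker] at this
  have hstrict : ∀ P P' : Ideal B, P.IsPrime → P'.IsPrime → P < P' → P' ≤ NB →
      P.comap ι.toRingHom < P'.comap ι.toRingHom := by
    intro P P' hP hP' hlt hle
    refine lt_of_le_of_ne (Ideal.comap_mono hlt.le) fun h => hlt.not_ge fun z hz => ?_
    obtain ⟨u, v, rfl⟩ := hgen z
    rw [hredu P (h1 P hP (hlt.le.trans hle)), h, ← hredu P' (h1 P' hP' hle)]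
    exact hz
  -- prime pullbacks above `Q`
  have hQle : ∀ P : Ideal B, P.IsPrime → P ≤ NB → P.comap ι.toRingHom ≠ maximalIdeal E →
      Q ≤ P.comap ι.toRingHom := by
    intro P hP hle hne
    have hPc : (P.comap ι.toRingHom).IsPrime := hP.comap _
    obtain ⟨x, hx, hxP⟩ : ∃ x ∈ I, algebraMap D E x ∉ P.comap ι.toRingHom := by
      by_contra hc
      push Not at hc
      have h2 : (maximalIdeal E) ^ n0 ≤ P.comap ι.toRingHom := by
        rw [← hmE, ← Ideal.map_pow, Ideal.map_le_iff_le_comap]
        exact hc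
      exact hne ((maximalIdeal.isMaximal E).eq_of_le hPc.ne_top (Ideal.IsPrime.le_of_pow_le h2)).symm
    refine hQ0P _ hPc fun q hq => ?_
    have hkP : kf x ∉ P.comap ι.toRingHom := fun h => by
      have h' : ι (algebraMap D E x) * e ∈ P := hxe x hx ▸ h
      exact (hP.mem_or_mem h').elim hxP fun he' => heN (hle he')
    exact (hPc.mem_or_mem (by rw [hmul q hq (kf x) (hkf x hx)]; exact zero_mem _)).resolve_right hkP
  let n := NB.comap σ
  haveI : Algebra.IsIntegral D D' := Algebra.IsIntegral.of_injective D'.val Subtype.val_injective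
  have hn : n.IsMaximal := by
    have := hNB.isPrime
    refine Ideal.isMaximal_of_isIntegral_of_isMaximal_comap (R := D) n ?_
    have : n.comap (algebraMap D D') = maximalIdeal D := by
      have h : n.comap (algebraMap D D') = (NB.comap ι.toRingHom).comap (algebraMap D E) := by
        ext d; simp only [n, Ideal.mem_comap]; rw [hcomm]; rfl
      rw [h, hmaxc]
      exact (IsLocalRing.eq_maximalIdeal (((maximalIdeal.isMaximal D)).eq_of_le
        (Ideal.comap_ne_top _ (maximalIdeal.isMaximal E).ne_top) (Ideal.map_le_iff_le_comap.mp hmE.le) ▸ maximalIdeal.isMaximal D))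
    rw [this]; infer_instance
  have hlow : Low n := by
    intro P0 P1 hP0 hP1 hlt hle
    by_contra hne
    have := hNB.isPrime
    haveI : NB.LiesOver n := ⟨rfl⟩
    obtain ⟨R1, hR1, hR1p, hR1o⟩ := NB.exists_ideal_le_liesOver_of_le (p := P1) (q := n) hle
    obtain ⟨R0, hR0, hR0p, hR0o⟩ := R1.exists_ideal_le_liesOver_of_le (p := P0) (q := P1) hlt.le
    have h01 : R0 < R1 := lt_of_le_of_ne hR0 fun h => hlt.ne (by rw [hR0o.over, hR1o.over, h])
    have h1N : R1 < NB := lt_of_le_of_ne hR1 fun h => hne (by rw [hR1o.over, h]; rfl)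
    have hlt2 := hstrict R1 NB hR1p hNB.isPrime h1N le_rfl
    rw [hmaxc] at hlt2
    have hlt1 := hstrict R0 R1 hR0p hR1p h01 hR1
    have e1 := hS.eq (hR1p.comap _) (hQle R1 hR1p hR1 hlt2.ne) hlt2.ne
    have e0 := hS.eq (hR0p.comap _) (hQle R0 hR0p (hR0.trans hR1) (hlt1.trans hlt2).ne) (hlt1.trans hlt2).ne
    exact hlt1.ne (e0.trans e1.symm)
  -- lift to `N`
  haveI : Algebra.IsIntegral D' N := Algebra.IsIntegral.tower_top D
  obtain ⟨M, hM, hMn⟩ := Ideal.exists_ideal_over_maximal_of_isIntegral (S := N) n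
    (by rw [(RingHom.injective_iff_ker_eq_bot _).mp (show Function.Injective (algebraMap D' N) from Subtype.val_injective)]; exact bot_le)
  refine ⟨M, hM, fun P0 P1 h0 h1' hlt hle => ?_⟩
  by_contra hne
  obtain ⟨x, hx1, hx2⟩ := SetLike.exists_of_lt hlt
  obtain ⟨y, hy1, hy2⟩ := SetLike.exists_of_lt (lt_of_le_of_ne hle hne)
  have l1 := Ideal.comap_lt_comap_of_integral_mem_sdiff (R := D') hlt.le ⟨hx1, hx2⟩ (Algebra.IsIntegral.isIntegral x)
  have l2 := Ideal.comap_lt_comap_of_integral_mem_sdiff (R := D') hle ⟨hy1, hy2⟩ (Algebra.IsIntegral.isIntegral y)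
  rw [hMn] at l2
  exact l2.ne (hlow _ _ (h0.comap _) (h1'.comap _) l1 l2.le)

/-- A low maximal ideal of a birational integral extension gives a small component of `E`. -/
theorem exists_small (hmE : (maximalIdeal D).map (algebraMap D E) = maximalIdeal E)
    (hD : maximalIdeal D ≠ ⊥)
    (N : Type u) [CommRing N] [IsDomain N] [Algebra D N] [Algebra.IsIntegral D N]
    (hinj : Function.Injective (algebraMap D N))
    (hbir : ∀ z : N, ∃ d : D, d ≠ 0 ∧ ∃ b : D, algebraMap D N d * z = algebraMap D N b)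
    (M : Ideal N) (hM : M.IsMaximal) (hlow : Low M)
    (hlocal : ∀ (C : Type u) [CommRing C] [IsDomain C] [Algebra E C] [Algebra.IsIntegral E C], IsLocalRing C) :
    ∃ Q ∈ minimalPrimes E, Small Q := by
  have hloc : IsLocalHom (algebraMap D E) :=
    ((local_hom_TFAE (algebraMap D E)).out 0 2 rfl rfl).mpr hmE.le
  have : Module.FaithfullyFlat D E := Module.FaithfullyFlat.of_flat_of_isLocalHom
  let B := N ⊗[D] E
  let ι : E →ₐ[D] B := Algebra.TensorProduct.includeRight
  have hιinj : Function.Injective ι := Algebra.TensorProduct.includeRight_injective hinj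
  letI : Algebra E B := Algebra.TensorProduct.rightAlgebra
  haveI : IsScalarTower D E B := IsScalarTower.of_algebraMap_eq fun d => (ι.commutes d).symm
  haveI : Algebra.IsIntegral E B := ⟨fun z => by
    induction z using TensorProduct.induction_on with
    | zero => exact isIntegral_zero
    | tmul u v =>
      have h1 : IsIntegral E (u ⊗ₜ[D] (1 : E) : B) :=
        ((Algebra.IsIntegral.isIntegral (R := D) u).map (Algebra.TensorProduct.includeLeft (S := D))).tower_top
      have h2 : (u ⊗ₜ[D] v : B) = algebraMap E B v * (u ⊗ₜ[D] (1 : E)) := by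
        show _ = ι v * _
        simp [ι, B]
      rw [h2]
      exact isIntegral_algebraMap.mul h1
    | add x y hx hy => exact hx.add hy⟩
  haveI : Module.FaithfullyFlat N B := inferInstance
  obtain ⟨⟨Mt, hMt⟩, hMtc⟩ := PrimeSpectrum.comap_surjective_of_faithfullyFlat (A := N) (B := B) ⟨M, hM.isPrime⟩
  replace hMtc : Mt.comap (algebraMap N B) = M := congrArg PrimeSpectrum.asIdeal hMtc
  obtain ⟨R, hR, hRle⟩ := Ideal.exists_minimalPrimes_le (I := (⊥ : Ideal B)) (J := Mt) bot_le
  have hRp : R.IsPrime := hR.1.1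
  have hRN : R.comap (algebraMap N B) = ⊥ := by
    obtain ⟨R', hR', hR'p, hR'o⟩ := R.exists_ideal_le_liesOver_of_le (p := (⊥ : Ideal N))
      (q := R.comap (algebraMap N B)) bot_le
    rw [show R' = R from le_antisymm hR' (hR.2 ⟨hR'p, bot_le⟩ hR')] at hR'o
    exact hR'o.over.symm
  let Q := R.comap (algebraMap E B)
  have hd : ∀ d : D, d ≠ 0 → algebraMap D B d ∉ R := fun d hd h => by
    rw [IsScalarTower.algebraMap_apply D N B, ← Ideal.mem_comap, hRN] at h
    exact hd ((map_eq_zero_iff _ hinj).mp h)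
  have hgen : ∀ z : B, ∃ d : D, d ≠ 0 ∧ ∃ v : E, algebraMap D B d * z = algebraMap E B v := by
    intro z
    induction z using TensorProduct.induction_on with
    | zero => exact ⟨1, one_ne_zero, 0, by simp⟩
    | tmul u v =>
      obtain ⟨d, hd, b, hb⟩ := hbir u
      refine ⟨d, hd, algebraMap D E b * v, ?_⟩
      rw [map_mul, ← IsScalarTower.algebraMap_apply D E B,
        IsScalarTower.algebraMap_apply D N B d, IsScalarTower.algebraMap_apply D N B b, ← hb, map_mul,
        mul_assoc]
      congr 1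
      show _ = Algebra.TensorProduct.includeLeftRingHom u * ι v
      simp [ι, B]
    | add x y hx hy =>
      obtain ⟨d, hd, v, hv⟩ := hx; obtain ⟨d', hd', v', hv'⟩ := hy
      refine ⟨d * d', mul_ne_zero hd hd', algebraMap D E d' * v + algebraMap D E d * v', ?_⟩
      simp only [map_add, map_mul, ← hv, ← hv', ← IsScalarTower.algebraMap_apply]; ring
  have hQmin : Q ∈ minimalPrimes E := by
    refine ⟨⟨hRp.comap _, bot_le⟩, fun Q' hQ' hle => ?_⟩
    have hQ'p : Q'.IsPrime := hQ'.1
    obtain ⟨R', -, hR'p, hR'Q⟩ := Ideal.exists_ideal_over_prime_of_isIntegral (R := E) (S := B) Q' ⊥ (by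
      rw [← RingHom.ker_eq_comap_bot, (RingHom.injective_iff_ker_eq_bot _).mp
        (show Function.Injective (algebraMap E B) from hιinj)]
      exact bot_le)
    have hR'R : R' ≤ R := fun z hz => by
      obtain ⟨d, hd0, v, hv⟩ := hgen z
      refine (hRp.mem_or_mem (x := algebraMap D B d) ?_).resolve_left (hd d hd0)
      rw [hv, ← Ideal.mem_comap]
      exact hle (hR'Q ▸ Ideal.mem_comap.mpr (hv ▸ Ideal.mul_mem_left _ _ hz))
    show Q ≤ Q'
    rw [← hR'Q]
    exact Ideal.comap_mono (hR.2 ⟨hR'p, bot_le⟩ hR'R)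
  obtain ⟨x, hx, hx0⟩ := Submodule.exists_mem_ne_zero_of_ne_bot hD
  refine ⟨Q, hQmin, algebraMap D E x, hmE ▸ Ideal.mem_map_of_mem _ hx, fun P hP hQP hxP => ?_⟩
  obtain ⟨R', hRR', hR'p, hR'P⟩ := Ideal.exists_ideal_over_prime_of_isIntegral (R := E) (S := B) P R hQP
  -- every prime over `R` lies below `Mt`
  haveI : IsDomain (B ⧸ R) := Ideal.Quotient.isDomain R
  haveI := hlocal (B ⧸ R)
  have hMtmax : Mt.IsMaximal := by
    refine Ideal.isMaximal_of_isIntegral_of_isMaximal_comap (R := E) Mt ?_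
    have : Mt.comap (algebraMap E B) = maximalIdeal E := by
      refine ((maximalIdeal.isMaximal E).eq_of_le (Ideal.comap_ne_top _ hMt.ne_top) ?_).symm
      rw [← hmE, Ideal.map_le_iff_le_comap, Ideal.comap_comap, ← IsScalarTower.algebraMap_eq,
        IsScalarTower.algebraMap_eq D N B, ← Ideal.comap_comap, hMtc]
      exact (IsLocalRing.eq_maximalIdeal (Ideal.isMaximal_comap_of_isIntegral_of_isMaximal (R := D) M)).ge
    rw [this]; infer_instance
  have hR'Mt : R' ≤ Mt := by
    obtain ⟨M', hM', hR'M'⟩ := Ideal.exists_le_maximal R' hR'p.ne_top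
    have e : ∀ J : Ideal B, J.IsMaximal → R ≤ J → J.map (Ideal.Quotient.mk R) = maximalIdeal (B ⧸ R) :=
      fun J hJ hle => IsLocalRing.eq_maximalIdeal (Ideal.IsMaximal.map_of_surjective_of_ker_le
        Ideal.Quotient.mk_surjective (by rwa [Ideal.mk_ker]))
    refine hR'M'.trans (le_of_eq ?_)
    have := congrArg (Ideal.comap (Ideal.Quotient.mk R))
      ((e M' hM' (hRR'.trans hR'M')).trans (e Mt hMtmax hRle).symm)
    rwa [Ideal.comap_map_of_surjective _ Ideal.Quotient.mk_surjective,
      Ideal.comap_map_of_surjective _ Ideal.Quotient.mk_surjective, ← RingHom.ker_eq_comap_bot, Ideal.mk_ker,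
      sup_eq_left.mpr (hRR'.trans hR'M'), sup_eq_left.mpr hRle] at this
  have hPN : R'.comap (algebraMap N B) = M := by
    refine hlow ⊥ _ Ideal.isPrime_bot (hR'p.comap _) ?_ (hMtc ▸ Ideal.comap_mono hR'Mt)
    refine bot_lt_iff_ne_bot.mpr fun h => hx0 ?_
    refine (map_eq_zero_iff _ hinj).mp ((Submodule.mem_bot N).mp (h ▸ ?_))
    rw [Ideal.mem_comap, ← IsScalarTower.algebraMap_apply, IsScalarTower.algebraMap_apply D E B, ← Ideal.mem_comap, hR'P]
    exact hxP
  refine ((maximalIdeal.isMaximal E).eq_of_le hP.ne_top ?_).symm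
  rw [← hmE, Ideal.map_le_iff_le_comap, ← hR'P, Ideal.comap_comap, ← IsScalarTower.algebraMap_eq,
    IsScalarTower.algebraMap_eq D N B, ← Ideal.comap_comap, hPN]
  exact (IsLocalRing.eq_maximalIdeal (Ideal.isMaximal_comap_of_isIntegral_of_isMaximal (R := D) M)).ge

end Groth.Agent.C2Cond88
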