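import Groth.Prelude.Def_CAlg2
import Groth.Agent.C2Cond88.Compl
import Mathlib

/-!
# `c₂`: normalization versus completion
-/

set_option autoImplicit false

universe u

open IsLocalRing

namespace Groth.Agent.C2Cond88

section Reduced

variable {A : Type u} [CommRing A] [IsNoetherianRing A] [IsReduced A]

theorem exists_mem_of_mul_eq_zero {a b : A} (h : a * b = 0) (hb : b ≠ 0) : ∃ p ∈ minimalPrimes A, a ∈ p := by
  by_contra hc
  push Not at hc
  refine hb ?_
  have : b ∈ sInf (minimalPrimes A) := Submodule.mem_sInf.mpr fun p hp =>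
    ((hp.1.1).mem_or_mem (h ▸ zero_mem p)).resolve_left (hc p hp)
  rwa [show sInf (minimalPrimes A) = nilradical A from Ideal.sInf_minimalPrimes, nilradical_eq_zero] at this

theorem mem_nonZeroDivisors_of_forall {a : A} (h : ∀ p ∈ minimalPrimes A, a ∉ p) : a ∈ nonZeroDivisors A := by
  refine mem_nonZeroDivisors_iff_right.mpr fun b hb => ?_
  by_contra hb0
  obtain ⟨p, hp, hap⟩ := exists_mem_of_mul_eq_zero (a := a) (b := b) (by rw [mul_comm]; exact hb) hb0
  exact h p hp hap

/-- Separating a minimal prime from the others. -/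
theorem exists_separation {p : Ideal A} (hp : p ∈ minimalPrimes A) :
    ∃ ε ε' : A, ε ∉ p ∧ ε' ∈ p ∧ (∀ q ∈ minimalPrimes A, q ≠ p → ε ∈ q ∧ ε' ∉ q) ∧ ε * ε' = 0 := by
  classical
  let F := ((minimalPrimes.finite_of_isNoetherianRing A).toFinset).erase p
  have hF : ∀ q ∈ F, q ∈ minimalPrimes A ∧ q ≠ p := fun q hq =>
    ⟨(Set.Finite.mem_toFinset _).mp (Finset.mem_of_mem_erase hq), Finset.ne_of_mem_erase hq⟩
  have hprod : ¬ (∏ q ∈ F, q) ≤ p := fun h => by
    obtain ⟨q, hq, hqp⟩ := (Ideal.IsPrime.prod_le hp.1.1).mp h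
    exact (hF q hq).2 (le_antisymm hqp (hp.2 (hF q hq).1.1 hqp))
  obtain ⟨ε, hε, hεp⟩ := SetLike.not_le_iff_exists.mp hprod
  obtain ⟨ε', hε', hε'F⟩ : ∃ ε' ∈ p, ∀ q ∈ F, ε' ∉ q := by
    by_contra hc
    push Not at hc
    have hsub : (p : Set A) ⊆ ⋃ q ∈ (F : Set (Ideal A)), (q : Set A) := fun x hx => by
      obtain ⟨q, hq, hxq⟩ := hc x hx
      exact Set.mem_iUnion₂.mpr ⟨q, hq, hxq⟩
    obtain ⟨q, hq, hle⟩ := (Ideal.subset_union_prime p p fun q hq _ _ => (hF q hq).1.1.1).mp hsub
    exact (hF q hq).2 (le_antisymm ((hF q hq).1.2 hp.1 hle) hle)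
  have hεF : ∀ q ∈ F, ε ∈ q := fun q hq => by
    exact (Ideal.prod_le_inf.trans (Finset.inf_le hq)) hε
  refine ⟨ε, ε', hεp, hε', fun q hq hne => ?_, ?_⟩
  · have hqF : q ∈ F := Finset.mem_erase.mpr ⟨hne, (Set.Finite.mem_toFinset _).mpr hq⟩
    exact ⟨hεF q hqF, hε'F q hqF⟩
  · have : ε * ε' ∈ sInf (minimalPrimes A) := Submodule.mem_sInf.mpr fun q hq => by
      rcases eq_or_ne q p with rfl | hne
      · exact Ideal.mul_mem_left _ _ hε'
      · exact Ideal.mul_mem_right _ _ (hεF q (Finset.mem_erase.mpr ⟨hne, (Set.Finite.mem_toFinset _).mpr hq⟩))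
    rwa [show sInf (minimalPrimes A) = nilradical A from Ideal.sInf_minimalPrimes, nilradical_eq_zero] at this

local notation "N₀" => integralClosure A (FractionRing A)

theorem exists_mul_eq (z : N₀) : ∃ u ∈ nonZeroDivisors A, ∃ b : A, algebraMap A N₀ u * z = algebraMap A N₀ b := by
  obtain ⟨⟨b, u⟩, h⟩ := IsLocalization.surj (nonZeroDivisors A) (z : FractionRing A)
  exact ⟨u, u.2, b, Subtype.ext ((mul_comm _ _).trans h)⟩

theorem notMem_minimalPrime {u : A} (hu : u ∈ nonZeroDivisors A) {p : Ideal A} (hp : p ∈ minimalPrimes A) : u ∉ p :=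
  fun h => Set.disjoint_left.mp (Ideal.disjoint_nonZeroDivisors_of_mem_minimalPrimes hp) h hu

theorem comap_minimal {P : Ideal N₀} (hP : P ∈ minimalPrimes N₀) :
    P.comap (algebraMap A N₀) ∈ minimalPrimes A := by
  classical
  have hPp := hP.1.1
  have hsub : ((P.comap (algebraMap A N₀) : Ideal A) : Set A) ⊆
      ⋃ q ∈ ((minimalPrimes.finite_of_isNoetherianRing A).toFinset : Set (Ideal A)), (q : Set A) := fun x hx => by
    by_contra hc
    simp only [Set.mem_iUnion, Set.Finite.coe_toFinset, not_exists] at hc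
    have hx0 : x ∈ nonZeroDivisors A := mem_nonZeroDivisors_of_forall fun q hq h => hc q hq h
    refine Set.disjoint_left.mp (Ideal.disjoint_nonZeroDivisors_of_mem_minimalPrimes hP) hx ?_
    refine mem_nonZeroDivisors_iff_right.mpr fun z hz => Subtype.ext ?_
    exact (IsLocalization.map_units (FractionRing A) (⟨x, hx0⟩ : nonZeroDivisors A)).mul_left_eq_zero.mp
      (congrArg Subtype.val hz)
  obtain ⟨q, hq, hle⟩ := (Ideal.subset_union_prime ⊥ ⊥ fun q hq _ _ =>
    ((Set.Finite.mem_toFinset _).mp hq).1.1).mp hsub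
  have hqm := (Set.Finite.mem_toFinset _).mp hq
  rwa [le_antisymm hle (hqm.2 ⟨hPp.comap _, bot_le⟩ hle)]

/-- Primes below a common prime contain the unique prime over the minimal prime. -/
theorem le_of_le_common {p : Ideal A} (hp : p ∈ minimalPrimes A) {R0 P M : Ideal N₀} (hR0 : R0.IsPrime)
    (hR0p : R0.comap (algebraMap A N₀) = p) (hR0M : R0 ≤ M) (hP : P.IsPrime) (hPM : P ≤ M) (hM : M ≠ ⊤) :
    R0 ≤ P := by
  obtain ⟨R1, hR1, hR1P⟩ := Ideal.exists_minimalPrimes_le (I := (⊥ : Ideal N₀)) (J := P) bot_le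
  have hR1p := hR1.1.1
  have hmin := comap_minimal hR1
  refine le_trans ?_ hR1P
  by_cases hq : R1.comap (algebraMap A N₀) = p
  · intro z hz
    obtain ⟨u, hu, b, hub⟩ := exists_mul_eq z
    refine (hR1p.mem_or_mem (x := algebraMap A N₀ u) ?_).resolve_left fun h => notMem_minimalPrime hu hmin h
    rw [hub, ← Ideal.mem_comap, hq, ← hR0p, Ideal.mem_comap, ← hub]
    exact R0.mul_mem_left _ hz
  obtain ⟨ε, ε', hεp, hε', hsep, hmul⟩ := exists_separation hp
  have hw : ε + ε' ∈ nonZeroDivisors A := mem_nonZeroDivisors_of_forall fun q hq h => by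
    rcases eq_or_ne q p with rfl | hne
    · exact hεp ((Submodule.add_mem_iff_left q hε').mp h)
    · exact (hsep q hq hne).2 ((Submodule.add_mem_iff_right q (hsep q hq hne).1).mp h)
  obtain ⟨v, hv⟩ := (IsLocalization.map_units (FractionRing A) (⟨ε + ε', hw⟩ : nonZeroDivisors A)).exists_left_inv
  have he2 : (algebraMap A (FractionRing A) ε * v) * (algebraMap A (FractionRing A) ε * v) =
      algebraMap A (FractionRing A) ε * v := by
    have h2 : algebraMap A (FractionRing A) ε * algebraMap A (FractionRing A) ε' = 0 := by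
      rw [← map_mul, hmul, map_zero]
    simp only [map_add] at hv
    linear_combination algebraMap A (FractionRing A) ε * v * hv - v * v * h2
  let e : N₀ := ⟨algebraMap A (FractionRing A) ε * v, ⟨Polynomial.X ^ 2 - Polynomial.X, by monicity!, by
    simp only [Polynomial.eval₂_sub, Polynomial.eval₂_pow, Polynomial.eval₂_X]
    rw [pow_two, he2, sub_self]⟩⟩
  have h1 : algebraMap A N₀ (ε + ε') * e = algebraMap A N₀ ε := Subtype.ext (by
    show algebraMap A (FractionRing A) (ε + ε') * (algebraMap A (FractionRing A) ε * v) = _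
    rw [mul_left_comm, mul_comm _ v]
    exact (congrArg (algebraMap A (FractionRing A) ε * ·) hv).trans (mul_one _))
  have he1 : e ∈ R1 := by
    refine (hR1p.mem_or_mem (x := algebraMap A N₀ (ε + ε')) ?_).resolve_left fun h => notMem_minimalPrime hw hmin h
    rw [h1, ← Ideal.mem_comap]
    exact (hsep _ hmin hq).1
  have he0 : 1 - e ∈ R0 := by
    refine (hR0.mem_or_mem (x := algebraMap A N₀ (ε + ε')) ?_).resolve_left fun h =>
      notMem_minimalPrime hw hp (hR0p ▸ h)
    rw [mul_sub, mul_one, h1, ← map_sub, ← Ideal.mem_comap, hR0p, add_sub_cancel_left]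
    exact hε'
  exact absurd ((Ideal.eq_top_iff_one M).mpr (by simpa using add_mem (hPM (hR1P he1)) (hR0M he0))) hM

theorem low_of_quotient {p : Ideal A} (hp : p ∈ minimalPrimes A) {R0 : Ideal N₀} [hR0 : R0.IsPrime]
    (hR0p : R0.comap (algebraMap A N₀) = p) (M : Ideal (N₀ ⧸ R0)) (hM : M ≠ ⊤) (hlow : Low (R := N₀ ⧸ R0) M) :
    Low (M.comap (Ideal.Quotient.mk R0)) := by
  intro P0 P1 h0 h1 hlt hle
  have hMt : M.comap (Ideal.Quotient.mk R0) ≠ ⊤ := Ideal.comap_ne_top _ hM
  have hR0M : R0 ≤ M.comap (Ideal.Quotient.mk R0) := fun x hx => by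
    rw [Ideal.mem_comap, Ideal.Quotient.eq_zero_iff_mem.mpr hx]; exact zero_mem _
  have e0 := le_of_le_common hp hR0 hR0p hR0M h0 (hlt.le.trans hle) hMt
  have e1 := le_of_le_common hp hR0 hR0p hR0M h1 hle hMt
  have hm0 : RingHom.ker (Ideal.Quotient.mk R0) ≤ P0 := by rwa [Ideal.mk_ker]
  have hm1 : RingHom.ker (Ideal.Quotient.mk R0) ≤ P1 := by rwa [Ideal.mk_ker]
  have c0 : (P0.map (Ideal.Quotient.mk R0)).comap (Ideal.Quotient.mk R0) = P0 := by
    rw [Ideal.comap_map_of_surjective _ Ideal.Quotient.mk_surjective, ← RingHom.ker_eq_comap_bot, sup_eq_left.mpr hm0]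
  have c1 : (P1.map (Ideal.Quotient.mk R0)).comap (Ideal.Quotient.mk R0) = P1 := by
    rw [Ideal.comap_map_of_surjective _ Ideal.Quotient.mk_surjective, ← RingHom.ker_eq_comap_bot, sup_eq_left.mpr hm1]
  have := hlow _ _ (Ideal.map_isPrime_of_surjective Ideal.Quotient.mk_surjective hm0)
    (Ideal.map_isPrime_of_surjective Ideal.Quotient.mk_surjective hm1)
    (lt_of_le_of_ne (Ideal.map_mono hlt.le) fun e => hlt.ne (c0.symm.trans ((congrArg (Ideal.comap _) e).trans c1)))
    (Ideal.map_le_iff_le_comap.mpr hle)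
  rw [← c1, this]

end Reduced

variable (A : Type u) [CommRing A] [IsNoetherianRing A] [IsLocalRing A]

theorem normRed_iff :
    (∀ m' : MaximalSpectrum (CAlg2.normRed A),
        (2 : WithBot ℕ∞) ≤ ringKrullDim (Localization.AtPrime m'.asIdeal)) ↔
      ∀ Q ∈ minimalPrimes (AdicCompletion (maximalIdeal A) A), ¬ Small Q := by
  classical
  haveI : IsReduced (CAlg2.red A) := (Ideal.isRadical_iff_quotient_reduced _).mp (Ideal.radical_isRadical _)
  haveI : IsNoetherianRing (CAlg2.red A) := inferInstance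
  have hnil : ∀ P : Ideal A, P.IsPrime → nilradical A ≤ P := fun P hP => nilradical_le_prime P
  haveI : Nontrivial (CAlg2.red A) := Ideal.Quotient.nontrivial_iff.mpr fun h =>
    (maximalIdeal.isMaximal A).ne_top (top_le_iff.mp (h.ge.trans (hnil _ inferInstance)))
  let mk := Ideal.Quotient.mk (nilradical A)
  have hdim : ∀ M : Ideal (CAlg2.normRed A), ∀ [M.IsPrime],
      ((2 : WithBot ℕ∞) ≤ ringKrullDim (Localization.AtPrime M) ↔ ¬ Low M) := by
    intro M _
    rw [IsLocalization.AtPrime.ringKrullDim_eq_height M (Localization.AtPrime M), low_iff_height_le_one, not_le,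
      show ((2 : WithBot ℕ∞)) = ((2 : ℕ∞) : WithBot ℕ∞) from rfl, WithBot.coe_le_coe,
      show (2 : ℕ∞) = 1 + 1 from one_add_one_eq_two.symm, ENat.add_one_le_iff (by simp)]
  have hmin : ∀ p : Ideal A, p ∈ minimalPrimes A → p.map mk ∈ minimalPrimes (CAlg2.red A) ∧ (p.map mk).comap mk = p := by
    intro p hp
    have := hp.1.1
    have hker : RingHom.ker mk ≤ p := by rw [Ideal.mk_ker]; exact hnil p hp.1.1
    have hc : (p.map mk).comap mk = p := by
      rw [Ideal.comap_map_of_surjective _ Ideal.Quotient.mk_surjective, ← RingHom.ker_eq_comap_bot,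
        sup_eq_left.mpr hker]
    refine ⟨⟨⟨Ideal.map_isPrime_of_surjective Ideal.Quotient.mk_surjective hker, bot_le⟩, fun q hq hle => ?_⟩, hc⟩
    have := hp.2 ⟨hq.1.comap mk, bot_le⟩ ((Ideal.comap_mono hle).trans hc.le)
    exact Ideal.map_le_iff_le_comap.mpr this
  haveI : IsLocalHom (algebraMap A (AdicCompletion (maximalIdeal A) A)) :=
    ((local_hom_TFAE (algebraMap A _)).out 0 2 rfl rfl).mpr (AdicCompletion.maximalIdeal_eq_map (R := A)).ge
  haveI : Module.FaithfullyFlat A (AdicCompletion (maximalIdeal A) A) := Module.FaithfullyFlat.of_flat_of_isLocalHom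
  constructor
  · intro h Q hQ hS
    set p := Q.comap (algebraMap A (AdicCompletion (maximalIdeal A) A)) with hpdef
    have hp : p ∈ minimalPrimes A := comap_mem_minimalPrimes hQ
    have hpp := hp.1.1
    obtain ⟨hp0, hp0c⟩ := hmin p hp
    set p0 := p.map mk
    rcases eq_or_ne p (maximalIdeal A) with hpm | hpm
    · obtain ⟨M, hM⟩ := Ideal.exists_maximal (CAlg2.normRed A)
      refine (hdim M).mp (h ⟨M, hM⟩) fun P0 P1 h0 h1 hlt hle => ?_
      obtain ⟨x, hx1, hx2⟩ := SetLike.exists_of_lt hlt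
      have hall : ∀ q : Ideal (CAlg2.red A), q.IsPrime → q = p0 := fun q hq => by
        have hqc : q.comap mk = maximalIdeal A :=
          le_antisymm (le_maximalIdeal (hq.comap mk).ne_top) (hpm ▸ hp.2 ⟨hq.comap mk, bot_le⟩
            (hpm ▸ le_maximalIdeal (hq.comap mk).ne_top))
        rw [← Ideal.map_comap_of_surjective mk Ideal.Quotient.mk_surjective q, hqc, ← hpm]
      exact absurd ((hall _ (h0.comap _)).trans (hall _ (h1.comap _)).symm)
        (Ideal.comap_lt_comap_of_integral_mem_sdiff (R := CAlg2.red A) hlt.le ⟨hx1, hx2⟩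
          (Algebra.IsIntegral.isIntegral x)).ne
    obtain ⟨s, a, c, c', hs, hcc, H⟩ := exists_low_of_small A hQ hS p rfl hpm
    obtain ⟨s, rfl⟩ := Ideal.Quotient.mk_surjective s
    obtain ⟨a, rfl⟩ := Ideal.Quotient.mk_surjective a
    obtain ⟨c, rfl⟩ := Ideal.Quotient.mk_surjective c
    obtain ⟨c', rfl⟩ := Ideal.Quotient.mk_surjective c'
    obtain ⟨ε, ε', hεp, hε', hsep, hmul⟩ := exists_separation hp0
    have hsp : mk s ∉ p0 := fun h' => hs (Ideal.Quotient.eq_zero_iff_mem.mpr (hp0c ▸ h'))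
    have hcc0 : ε * (mk a * mk a - mk c * (mk a * mk s) - mk c' * (mk s * mk s)) = 0 := by
      rw [← map_mul, ← map_mul, ← map_mul, ← map_mul, ← map_mul, ← map_sub, ← map_sub]
      have hin : a * a - c * (a * s) - c' * (s * s) ∈ p := by
        rw [← Ideal.Quotient.eq_zero_iff_mem]
        simp only [map_sub, map_mul]
        linear_combination hcc
      have : ε * mk (a * a - c * (a * s) - c' * (s * s)) ∈ sInf (minimalPrimes (CAlg2.red A)) :=
        Submodule.mem_sInf.mpr fun q hq => by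
          rcases eq_or_ne q p0 with rfl | hne
          · exact Ideal.mul_mem_left _ _ (Ideal.mem_map_of_mem mk hin)
          · exact Ideal.mul_mem_right _ _ (hsep q hq hne).1
      rw [show sInf (minimalPrimes (CAlg2.red A)) = nilradical _ from Ideal.sInf_minimalPrimes] at this
      exact IsNilpotent.eq_zero (mem_nilradical.mp this)
    have hs' : mk s * ε + ε' ∈ nonZeroDivisors (CAlg2.red A) := mem_nonZeroDivisors_of_forall fun q hq h' => by
      rcases eq_or_ne q p0 with rfl | hne
      · exact (hp0.1.1.mem_or_mem ((Submodule.add_mem_iff_left p0 hε').mp h')).elim hsp hεp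
      · exact (hsep q hq hne).2 ((Submodule.add_mem_iff_right q (Ideal.mul_mem_left _ _ (hsep q hq hne).1)).mp h')
    let K := FractionRing (CAlg2.red A)
    let f := algebraMap (CAlg2.red A) K
    obtain ⟨v, hv⟩ := (IsLocalization.map_units K (⟨_, hs'⟩ : nonZeroDivisors (CAlg2.red A))).exists_left_inv
    let z : K := f (mk a * ε) * v
    have hsz : f (mk s * ε + ε') * z = f (mk a * ε) := by
      rw [mul_left_comm, mul_comm _ v, hv, mul_one]
    have hz : IsIntegral (CAlg2.red A) z := by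
      refine ⟨(Polynomial.X ^ 2 - Polynomial.C (mk c) * Polynomial.X) ^ 2 -
        Polynomial.C (mk c') * (Polynomial.X ^ 2 - Polynomial.C (mk c) * Polynomial.X), by monicity!, ?_⟩
      simp only [Polynomial.eval₂_sub, Polynomial.eval₂_pow, Polynomial.eval₂_X, Polynomial.eval₂_mul,
        Polynomial.eval₂_C]
      have h2 : f ε * f ε' = 0 := by rw [← map_mul, hmul, map_zero]
      have h3 := congrArg f hcc0
      simp only [map_mul, map_sub, map_zero] at h3
      simp only [z, map_mul, map_add] at hsz hv ⊢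
      show (_ : K) = 0
      set F := f (mk a) with hF
      set S := f (mk s)
      set C := f (mk c)
      set C' := f (mk c')
      have k1 : F * (f ε * v) * (S * f ε + f ε') = F * f ε := by linear_combination F * f ε * hv
      have k2 : F * f ε * f ε' = 0 := by linear_combination F * h2
      have key : (F * f ε * v) ^ 2 - C * (F * f ε * v) = C' * (S * f ε * v) ^ 2 := by
        linear_combination v ^ 2 * f ε * h3 + C * F * f ε * v * hv - C * F * v * v * h2
      have k3 : (S * f ε * v) * (S * f ε * v) = S * f ε * v := by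
        linear_combination S * f ε * v * hv - S * v * v * h2
      rw [show F * f ε * v = f (mk a) * f ε * v from rfl] at key
      linear_combination ((F * f ε * v) ^ 2 - C * (F * f ε * v) + C' * (S * f ε * v) ^ 2 - C') * key +
        C' ^ 2 * ((S * f ε * v) ^ 2 + S * f ε * v) * k3
    haveI := hp0.1.1
    obtain ⟨R0, -, hR0, hR0p⟩ := Ideal.exists_ideal_over_prime_of_isIntegral (R := CAlg2.red A)
      (S := CAlg2.normRed A) p0 ⊥ (by
        rw [← RingHom.ker_eq_comap_bot, (RingHom.injective_iff_ker_eq_bot _).mp fun x y e =>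
          IsFractionRing.injective (CAlg2.red A) K (congrArg Subtype.val e)]
        exact bot_le)
    let φ : A →+* CAlg2.normRed A ⧸ R0 :=
      (Ideal.Quotient.mk R0).comp ((algebraMap (CAlg2.red A) (CAlg2.normRed A)).comp mk)
    have hφker : RingHom.ker φ = p := by
      rw [← RingHom.comap_ker, Ideal.mk_ker, ← Ideal.comap_comap, hR0p, hp0c]
    letI : Algebra (A ⧸ p) (CAlg2.normRed A ⧸ R0) := (Ideal.Quotient.lift p φ fun x hx => by
      rwa [← RingHom.mem_ker, hφker]).toAlgebra
    have hinj : Function.Injective (algebraMap (A ⧸ p) (CAlg2.normRed A ⧸ R0)) :=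
      RingHom.lift_injective_of_ker_le_ideal _ _ hφker.le
    haveI : Algebra.IsIntegral (A ⧸ p) (CAlg2.normRed A ⧸ R0) := ⟨fun y => by
      refine RingHom.IsIntegralElem.of_comp (f := Ideal.Quotient.mk p) ?_
      show φ.IsIntegralElem y
      exact RingHom.IsIntegral.trans _ _ (RingHom.IsIntegral.trans _ _
        (RingHom.isIntegral_of_surjective _ Ideal.Quotient.mk_surjective)
        (algebraMap_isIntegral_iff.mpr inferInstance))
        (RingHom.isIntegral_of_surjective _ Ideal.Quotient.mk_surjective) y⟩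
    have hεR : algebraMap (CAlg2.red A) (CAlg2.normRed A) ε ∉ R0 := fun h' => hεp (hR0p ▸ h')
    obtain ⟨M, hM, hlow⟩ := H _ hinj (Ideal.Quotient.mk R0 ⟨z, hz⟩) (by
      show φ s * Ideal.Quotient.mk R0 ⟨z, hz⟩ = φ a
      simp only [φ, RingHom.comp_apply]
      rw [← map_mul]
      refine Ideal.Quotient.eq.mpr ?_
      refine (hR0.mem_or_mem (x := algebraMap (CAlg2.red A) (CAlg2.normRed A) ε) ?_).resolve_left hεR
      have h0 : algebraMap (CAlg2.red A) (CAlg2.normRed A) ε' ∈ R0 := by rw [← Ideal.mem_comap, hR0p]; exact hε'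
      rw [show algebraMap (CAlg2.red A) (CAlg2.normRed A) ε * (algebraMap (CAlg2.red A) (CAlg2.normRed A) (mk s) * ⟨z, hz⟩ -
          algebraMap (CAlg2.red A) (CAlg2.normRed A) (mk a)) =
        -(algebraMap (CAlg2.red A) (CAlg2.normRed A) ε' * ⟨z, hz⟩) from Subtype.ext (by
          simp only [map_add, map_mul] at hsz
          push_cast
          show f ε * (f (mk s) * z - f (mk a)) = -(f ε' * z)
          linear_combination hsz)]
      exact neg_mem (Ideal.mul_mem_right _ _ h0))
    haveI : (M.comap (Ideal.Quotient.mk R0)).IsMaximal :=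
      Ideal.comap_isMaximal_of_surjective _ Ideal.Quotient.mk_surjective
    exact (hdim _).mp (h ⟨M.comap (Ideal.Quotient.mk R0), inferInstance⟩)
      (low_of_quotient hp0 hR0p M hM.ne_top hlow)
  · intro h m'
    have := m'.isMaximal
    rw [hdim]
    intro hlow
    obtain ⟨R0, hR0m, hR0M⟩ : ∃ R0 : Ideal (CAlg2.normRed A), R0 ∈ minimalPrimes (CAlg2.normRed A) ∧ R0 ≤ m'.asIdeal :=
      Ideal.exists_minimalPrimes_le (I := (⊥ : Ideal (CAlg2.normRed A))) (J := m'.asIdeal) bot_le
    have hR0 := hR0m.1.1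
    have hp0 := comap_minimal hR0m
    set p0 := R0.comap (algebraMap (CAlg2.red A) (CAlg2.normRed A)) with hp0def
    have hp : p0.comap mk ∈ minimalPrimes A := by
      refine ⟨⟨hp0.1.1.comap mk, bot_le⟩, fun q hq hle => ?_⟩
      have := hq.1
      have hker : RingHom.ker mk ≤ q := by rw [Ideal.mk_ker]; exact hnil q hq.1
      have h2 := hp0.2 ⟨Ideal.map_isPrime_of_surjective Ideal.Quotient.mk_surjective hker, bot_le⟩
        (Ideal.map_le_iff_le_comap.mpr hle)
      refine (Ideal.comap_mono h2).trans ?_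
      rw [Ideal.comap_map_of_surjective _ Ideal.Quotient.mk_surjective, ← RingHom.ker_eq_comap_bot,
        sup_eq_left.mpr hker]
    set p := p0.comap mk
    rcases eq_or_ne p (maximalIdeal A) with hpm | hpm
    · obtain ⟨Q, hQ, hQp⟩ := exists_minimal_over (S := AdicCompletion (maximalIdeal A) A) hp
      exact h Q hQ (small_of_small_comap (AdicCompletion.maximalIdeal_eq_map (R := A)).symm
        (hQp.symm ▸ ⟨0, zero_mem _, fun P hP hle _ =>
          ((maximalIdeal.isMaximal A).eq_of_le hP.ne_top (hpm ▸ hle)).symm⟩))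
    have := hp.1.1
    let φ : A →+* CAlg2.normRed A ⧸ R0 :=
      (Ideal.Quotient.mk R0).comp ((algebraMap (CAlg2.red A) (CAlg2.normRed A)).comp mk)
    have hφker : RingHom.ker φ = p := by rw [← RingHom.comap_ker, Ideal.mk_ker, ← Ideal.comap_comap]
    letI : Algebra (A ⧸ p) (CAlg2.normRed A ⧸ R0) := RingHom.toAlgebra (R := A ⧸ p) (S := CAlg2.normRed A ⧸ R0) (Ideal.Quotient.lift p φ fun x hx => by
      rwa [← RingHom.mem_ker, hφker])
    have hinj : Function.Injective (algebraMap (A ⧸ p) (CAlg2.normRed A ⧸ R0)) :=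
      RingHom.lift_injective_of_ker_le_ideal _ _ hφker.le
    haveI : Algebra.IsIntegral (A ⧸ p) (CAlg2.normRed A ⧸ R0) := ⟨fun y => by
      refine RingHom.IsIntegralElem.of_comp (f := Ideal.Quotient.mk p) ?_
      show φ.IsIntegralElem y
      exact RingHom.IsIntegral.trans _ _ (RingHom.IsIntegral.trans _ _
        (RingHom.isIntegral_of_surjective _ Ideal.Quotient.mk_surjective)
        (algebraMap_isIntegral_iff.mpr inferInstance))
        (RingHom.isIntegral_of_surjective _ Ideal.Quotient.mk_surjective) y⟩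
    have hker : RingHom.ker (Ideal.Quotient.mk R0) ≤ m'.asIdeal := by rwa [Ideal.mk_ker]
    have hcm : (m'.asIdeal.map (Ideal.Quotient.mk R0)).comap (Ideal.Quotient.mk R0) = m'.asIdeal := by
      rw [Ideal.comap_map_of_surjective _ Ideal.Quotient.mk_surjective, ← RingHom.ker_eq_comap_bot,
        sup_eq_left.mpr hker]
    have hbir : ∀ y : CAlg2.normRed A ⧸ R0, ∃ d : A ⧸ p, d ≠ 0 ∧ ∃ b,
        algebraMap (A ⧸ p) (CAlg2.normRed A ⧸ R0) d * y = algebraMap (A ⧸ p) (CAlg2.normRed A ⧸ R0) b := by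
      intro y
      obtain ⟨y, rfl⟩ := Ideal.Quotient.mk_surjective y
      obtain ⟨u, hu, b, hub⟩ := exists_mul_eq y
      obtain ⟨u, rfl⟩ := Ideal.Quotient.mk_surjective u
      obtain ⟨b, rfl⟩ := Ideal.Quotient.mk_surjective b
      refine ⟨Ideal.Quotient.mk p u, fun h0 => notMem_minimalPrime hu hp0 ?_, Ideal.Quotient.mk p b, ?_⟩
      · exact (Ideal.Quotient.eq_zero_iff_mem.mp h0 : u ∈ p)
      · show φ u * _ = φ b
        simp only [φ, RingHom.comp_apply, mk, ← map_mul, hub]
    have hlowM : Low (R := CAlg2.normRed A ⧸ R0) (m'.asIdeal.map (Ideal.Quotient.mk R0)) := by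
      intro P0 P1 h0 h1 hlt hle
      have l := hlow _ _ (h0.comap (Ideal.Quotient.mk R0)) (h1.comap (Ideal.Quotient.mk R0))
        (lt_of_le_of_ne (Ideal.comap_mono hlt.le) fun e => hlt.ne
          (Ideal.comap_injective_of_surjective _ Ideal.Quotient.mk_surjective e))
        ((Ideal.comap_mono hle).trans hcm.le)
      rw [← Ideal.map_comap_of_surjective _ Ideal.Quotient.mk_surjective P1, l]
    have hMmax : (m'.asIdeal.map (Ideal.Quotient.mk R0)).IsMaximal :=
      Ideal.IsMaximal.map_of_surjective_of_ker_le Ideal.Quotient.mk_surjective hker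
    obtain ⟨Q, hQ, hS⟩ := exists_small_of_low A p hp hpm (CAlg2.normRed A ⧸ R0) hinj hbir _ hMmax hlowM
    exact h Q hQ hS

end Groth.Agent.C2Cond88
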